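import Mathlib.Algebra.Field.Defs
import Mathlib.Data.Fintype.Card
import Mathlib.Data.Finset.Insert

/-! A concrete field with four elements. -/

set_option autoImplicit false

namespace Cfsg.Agent.RigidGraph.He

/-- The field with four elements. -/
inductive K4 where
  | o | l | w | v
  deriving DecidableEq

instance : Fintype K4 := ⟨{K4.o, K4.l, K4.w, K4.v}, fun x => by cases x <;> decide⟩

namespace K4

/-- addition -/
protected def add : K4 → K4 → K4
  | o, x => x
  | x, o => x
  | l, l => o | l, w => v | l, v => w
  | w, l => v | w, w => o | w, v => l
  | v, l => w | v, w => l | v, v => o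

/-- multiplication -/
protected def mul : K4 → K4 → K4
  | o, _ => o
  | _, o => o
  | l, x => x
  | x, l => x
  | w, w => v | w, v => l
  | v, w => l | v, v => w

/-- inversion -/
protected def inv : K4 → K4
  | o => o | l => l | w => v | v => w

instance : Add K4 := ⟨K4.add⟩
instance : Mul K4 := ⟨K4.mul⟩
instance : Inv K4 := ⟨K4.inv⟩
instance : Neg K4 := ⟨id⟩
instance : Zero K4 := ⟨o⟩
instance : One K4 := ⟨l⟩

instance : Field K4 where
  add_assoc := by decide
  zero_add := by decide
  add_zero := by decide
  add_comm := by decide
  nsmul := nsmulRec
  zsmul := zsmulRec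
  neg_add_cancel := by decide
  left_distrib := by decide
  right_distrib := by decide
  zero_mul := by decide
  mul_zero := by decide
  mul_assoc := by decide
  one_mul := by decide
  mul_one := by decide
  mul_comm := by decide
  exists_pair_ne := ⟨o, l, by decide⟩
  mul_inv_cancel := by decide
  inv_zero := rfl
  nnqsmul := _
  qsmul := _

/-- The element with a given digit. -/
def ofDigit : ℕ → K4
  | 1 => l | 2 => w | 3 => v | _ => o

theorem card_K4 : Fintype.card K4 = 4 := by decide

theorem add_self (a : K4) : a + a = 0 := by revert a; decide

end K4

end Cfsg.Agent.RigidGraph.He
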