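import Cfsg.Agent.Lib.RigidGraph.He.Group
import Cfsg.Agent.Lib.RigidGraph.He.RelabelData
import Cfsg.Agent.Lib.RigidGraph.He.Coset.Defg
import Cfsg.Agent.Lib.RigidGraph.He.Coset.Acdefg
import Cfsg.Agent.Lib.RigidGraph.He.Coset.Abcde
import Cfsg.Agent.Lib.RigidGraph.He.Coset.Full
import Cfsg.Agent.Lib.Compute.CosetBound
import Cfsg.Agent.Lib.Compute.CosetData.HeSetup

/-!
The presented group: its order is at most that of the group on 2058 points, so the table gives an
isomorphism.
-/

set_option autoImplicit false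
set_option maxRecDepth 100000

namespace Cfsg.Agent.RigidGraph.He

open Cfsg.Agent.CosetCert
open scoped Pointwise

/-- The presented group. -/
abbrev PG : Type := Cfsg.Agent.CosetData.HeH.setup.G

/-- The generators by number. -/
noncomputable def pgen (x : ℕ) : PG := Cfsg.Agent.CosetData.HeH.setup.gen x

theorem pgen_invol (x : ℕ) : pgen x * pgen x = 1 := Cfsg.Agent.CosetData.HeH.setup.gen_invol x

theorem base_one : ∀ w ∈ Cfsg.Agent.CosetData.HeH.base, wprod pgen w = 1 :=
  Cfsg.Agent.CosetData.HeH.setup.base_one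

/-- The subgroup generated by some of the generators. -/
noncomputable def par (S : List ℕ) : Subgroup PG := Subgroup.closure (pgen '' {x | x ∈ S})

theorem pgen_mem {S : List ℕ} {x : ℕ} (h : x ∈ S) : pgen x ∈ par S := Subgroup.subset_closure ⟨x, h, rfl⟩

theorem wprod_mem {S : List ℕ} {w : List ℕ} (h : ∀ x ∈ w, x ∈ S) : wprod pgen w ∈ par S := by
  refine Subgroup.list_prod_mem _ fun g hg => ?_
  obtain ⟨x, hx, rfl⟩ := List.mem_map.1 hg
  exact pgen_mem (h x hx)

/-- A generator inside such a subgroup, by position. -/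
noncomputable def lgen (S : List ℕ) (i : ℕ) : ↥(par S) :=
  if h : i < S.length then ⟨pgen (S.getD i 0), pgen_mem (by
    rw [List.getD_eq_getElem _ _ h]; exact List.getElem_mem _)⟩ else 1

theorem lgen_invol (S : List ℕ) (i : ℕ) : lgen S i * lgen S i = 1 := by
  by_cases h : i < S.length
  · rw [lgen, dif_pos h]; exact Subtype.ext (pgen_invol _)
  · rw [lgen, dif_neg h, mul_one]

theorem lgen_closure (S : List ℕ) {k : ℕ} (hk : k = S.length) :
    Subgroup.closure (lgen S '' {x | x < k}) = ⊤ := by
  subst hk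
  refine eq_top_iff.2 ((Subgroup.closure_closure_coe_preimage (k := pgen '' {x | x ∈ S})).symm.trans_le
    (Subgroup.closure_mono ?_))
  rintro ⟨g, hg⟩ ⟨x, hx, rfl⟩
  obtain ⟨i, hi, rfl⟩ := List.getElem_of_mem (show x ∈ S from hx)
  refine ⟨i, hi, Subtype.ext ?_⟩
  rw [lgen, dif_pos hi]
  show pgen (S.getD i 0) = pgen S[i]
  rw [List.getD_eq_getElem _ _ hi]

theorem coe_wprod_lgen (S : List ℕ) : ∀ w : List ℕ, (∀ x ∈ w, x < S.length) →
    ((wprod (lgen S) w : ↥(par S)) : PG) = wprod pgen (w.map fun x => S.getD x 0) := by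
  intro w
  induction w with
  | nil => intro _; rfl
  | cons x w ih =>
    intro h
    rw [List.map_cons, wprod_cons, wprod_cons, Subgroup.coe_mul, ih fun y hy => h y (List.mem_cons_of_mem _ hy),
      lgen, dif_pos (h x List.mem_cons_self)]

/-- The relators of a small table hold in the presented group. -/
def localOK (S : List ℕ) (base : List (List ℕ)) (known : List (List ℕ)) : Bool :=
  base.all fun w => w.all (fun x => Nat.blt x S.length) &&
    known.any fun u => wordEq (w.map fun x => S.getD x 0) u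

theorem local_one {S : List ℕ} {base known : List (List ℕ)} (hk : ∀ u ∈ known, wprod pgen u = 1)
    (h : localOK S base known = true) : ∀ w ∈ base, wprod (lgen S) w = 1 := by
  intro w hw
  simp only [localOK, List.all_eq_true, Bool.and_eq_true, Nat.blt_eq, List.any_eq_true] at h
  obtain ⟨h1, u, hu, he⟩ := h w hw
  refine Subtype.ext ?_
  rw [coe_wprod_lgen S w h1, eq_of_wordEq he, hk u hu]
  rfl

theorem abcde_one {w : List ℕ} (hw : (w.all fun x => Nat.blt x 5) = true)
    (h0 : tact Coset.Abcde.P w 0 = 0) : wprod pgen w = 1 := by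
  have hl : ∀ x ∈ w, x < 5 := by simpa using hw
  have h := (index_bound (P := Coset.Abcde.P) (H := (⊥ : Subgroup ↥(par [0, 1, 2, 3, 4])))
    (lgen_invol [0, 1, 2, 3, 4]) (lgen_closure _ rfl)
    (local_one base_one (by decide +kernel : localOK [0, 1, 2, 3, 4] Coset.Abcde.base
      Cfsg.Agent.CosetData.HeH.base = true)) Coset.Abcde.rots_ok
    (fun u hu => absurd hu (by simp [Coset.Abcde.P, Coset.Abcde.subs]))
    Coset.Abcde.cert_ok Coset.Abcde.tab_ok (by norm_num)).2.2 w hw h0
  rw [Subgroup.mem_bot] at h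
  have h2 := congrArg Subtype.val h
  rw [coe_wprod_lgen [0, 1, 2, 3, 4] w hl] at h2
  refine Eq.trans ?_ h2
  congr 1
  symm
  refine (List.map_congr_left (g := id) fun x hx => ?_).trans (List.map_id _)
  have := hl x hx
  interval_cases x <;> rfl

/-- The additional relator. -/
def zWord : List ℕ := [2, 3, 2, 3, 4, 3, 2, 3, 2, 3, 4, 3, 2, 3, 4]

theorem zWord_one : wprod pgen zWord = 1 := abcde_one (by decide) (by decide +kernel)

theorem card_defg : Finite ↥(par [3, 4, 5, 6]) ∧ Nat.card ↥(par [3, 4, 5, 6]) ≤ 168 := by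
  obtain ⟨hf, hi, -⟩ := index_bound (P := Coset.Defg.P) (H := (⊥ : Subgroup ↥(par [3, 4, 5, 6])))
    (lgen_invol [3, 4, 5, 6]) (lgen_closure _ rfl)
    (local_one base_one (by decide +kernel : localOK [3, 4, 5, 6] Coset.Defg.base
      Cfsg.Agent.CosetData.HeH.base = true)) Coset.Defg.rots_ok
    (fun u hu => absurd hu (by simp [Coset.Defg.P, Coset.Defg.subs]))
    Coset.Defg.cert_ok Coset.Defg.tab_ok (by norm_num)
  rw [Subgroup.index_bot] at hi
  exact ⟨Finite.of_equiv _ QuotientGroup.quotientBot.toEquiv, hi⟩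

theorem card_acdefg : Finite ↥(par [0, 2, 3, 4, 5, 6]) ∧ Nat.card ↥(par [0, 2, 3, 4, 5, 6]) ≤ 80640 := by
  set H := (par [3, 4, 5, 6]).subgroupOf (par [0, 2, 3, 4, 5, 6])
  have hle : par [3, 4, 5, 6] ≤ par [0, 2, 3, 4, 5, 6] :=
    Subgroup.closure_mono (Set.image_mono fun x hx => by
      simp only [Set.mem_ofPred_eq, List.mem_cons, List.not_mem_nil, or_false] at hx ⊢
      omega)
  have hsub : ∀ u ∈ Coset.Acdefg.P.subs, wprod (lgen [0, 2, 3, 4, 5, 6]) u ∈ H := by
    intro u hu
    have hchk : (Coset.Acdefg.P.subs.all fun v => v.all fun x => Nat.ble 2 x && Nat.blt x 6) = true := by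
      decide +kernel
    have h := List.all_eq_true.1 hchk u hu
    simp only [List.all_eq_true, Bool.and_eq_true, Nat.ble_eq, Nat.blt_eq] at h
    rw [Subgroup.mem_subgroupOf, coe_wprod_lgen [0, 2, 3, 4, 5, 6] u fun x hx => (h x hx).2]
    refine wprod_mem fun y hy => ?_
    obtain ⟨x, hx, rfl⟩ := List.mem_map.1 hy
    obtain ⟨a, b⟩ := h x hx
    interval_cases x <;> simp
  obtain ⟨hf, hi, -⟩ := index_bound (P := Coset.Acdefg.P) (H := H)
    (lgen_invol [0, 2, 3, 4, 5, 6]) (lgen_closure _ rfl)
    (local_one (known := zWord :: Cfsg.Agent.CosetData.HeH.base)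
      (fun u hu => (List.mem_cons.1 hu).elim (fun e => e ▸ zWord_one) (base_one u))
      (by decide +kernel : localOK [0, 2, 3, 4, 5, 6] Coset.Acdefg.base
        (zWord :: Cfsg.Agent.CosetData.HeH.base) = true)) Coset.Acdefg.rots_ok hsub
    Coset.Acdefg.cert_ok Coset.Acdefg.tab_ok (by norm_num)
  obtain ⟨hfd, hd⟩ := card_defg
  haveI : Finite ↥H := Finite.of_equiv _ (Subgroup.subgroupOfEquivOfLe hle).toEquiv.symm
  refine ⟨Finite.of_equiv _ (Subgroup.groupEquivQuotientProdSubgroup (s := H)).symm, ?_⟩
  rw [← Subgroup.card_mul_index H, Nat.card_congr (Subgroup.subgroupOfEquivOfLe hle).toEquiv]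
  exact (Nat.mul_le_mul hd hi).trans (by norm_num)

/-- The involution normalising the centraliser. -/
noncomputable def tInv : PG := wprod pgen [1, 0, 1]

theorem tInv_sq : tInv * tInv = 1 := by
  simp only [tInv, wprod_cons, wprod_nil, mul_one, mul_assoc]
  rw [← mul_assoc (pgen 1) (pgen 1), pgen_invol, one_mul, ← mul_assoc (pgen 0), pgen_invol, one_mul, pgen_invol]

theorem commute_of_base {x y : ℕ} (h : [x, y, x, y] ∈ Cfsg.Agent.CosetData.HeH.base) :
    pgen x * pgen y = pgen y * pgen x := by
  have h1 := base_one _ h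
  simp only [wprod_cons, wprod_nil, mul_one, ← mul_assoc] at h1
  have h2 := eq_inv_of_mul_eq_one_left h1
  rw [inv_eq_of_mul_eq_one_right (pgen_invol y)] at h2
  calc pgen x * pgen y = pgen x * pgen y * pgen x * pgen x := by rw [mul_assoc, pgen_invol, mul_one]
    _ = pgen y * pgen x := by rw [h2]

theorem conj_far {x : ℕ} (h0 : [0, x, 0, x] ∈ Cfsg.Agent.CosetData.HeH.base)
    (h1 : [1, x, 1, x] ∈ Cfsg.Agent.CosetData.HeH.base) : tInv * pgen x * tInv = pgen x := by
  have c0 : Commute (pgen 0) (pgen x) := commute_of_base h0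
  have c1 : Commute (pgen 1) (pgen x) := commute_of_base h1
  have hc : Commute tInv (pgen x) := by
    simp only [tInv, wprod_cons, wprod_nil, mul_one]
    exact Commute.mul_left c1 (Commute.mul_left c0 c1)
  rw [hc.eq, mul_assoc, tInv_sq, mul_one]

theorem conj_tInv {x : ℕ} (hx : x ∈ [0, 2, 3, 4, 5, 6]) : tInv * pgen x * tInv ∈ par [0, 2, 3, 4, 5, 6] := by
  have key : ∀ r : List ℕ, ([1, 0, 1] ++ [x] ++ [1, 0, 1] ++ r.reverse).all (fun y => Nat.blt y 5) = true →
      tact Coset.Abcde.P ([1, 0, 1] ++ [x] ++ [1, 0, 1] ++ r.reverse) 0 = 0 →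
      tInv * pgen x * tInv = wprod pgen r := by
    intro r h1 h2
    have h := abcde_one h1 h2
    rw [wprod_append, wprod_append, wprod_append, wprod_reverse pgen_invol, mul_inv_eq_one] at h
    rw [← h]
    simp [tInv, wprod_cons, wprod_nil]
  simp only [List.mem_cons, List.not_mem_nil, or_false] at hx
  rcases hx with rfl | rfl | rfl | rfl | hx | hx
  · rw [key [0] (by decide) (by decide +kernel)]; exact wprod_mem (by decide)
  · rw [key [0, 2, 4] (by decide) (by decide +kernel)]; exact wprod_mem (by decide)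
  · rw [key [3] (by decide) (by decide +kernel)]; exact wprod_mem (by decide)
  · rw [key [4] (by decide) (by decide +kernel)]; exact wprod_mem (by decide)
  · subst hx; rw [conj_far (by decide +kernel) (by decide +kernel)]; exact pgen_mem (by decide)
  · subst hx; rw [conj_far (by decide +kernel) (by decide +kernel)]; exact pgen_mem (by decide)

/-- The subgroup of the big table. -/
noncomputable def bigSub : Subgroup PG := Subgroup.closure (pgen '' {x | x ∈ [0, 2, 3, 4, 5, 6]} ∪ {tInv})

theorem card_bigSub : Finite ↥bigSub ∧ Nat.card ↥bigSub ≤ 161280 := by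
  set K := par [0, 2, 3, 4, 5, 6] with hK
  obtain ⟨hKf, hKc⟩ := card_acdefg
  rw [← hK] at hKf hKc
  have hconj : ∀ k ∈ K, tInv * k * tInv ∈ K := by
    intro k hk
    rw [hK, par] at hk
    induction hk using Subgroup.closure_induction with
    | mem g hg => obtain ⟨x, hx, rfl⟩ := hg; exact conj_tInv hx
    | one => rw [mul_one, tInv_sq]; exact one_mem _
    | mul a b _ _ ha hb =>
      have := mul_mem ha hb
      rwa [show tInv * a * tInv * (tInv * b * tInv) = tInv * a * (tInv * tInv) * b * tInv by simp [mul_assoc],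
        tInv_sq, mul_one, mul_assoc tInv a b] at this
    | inv a _ ha =>
      have := inv_mem ha
      rwa [mul_inv_rev, mul_inv_rev, inv_eq_of_mul_eq_one_right tInv_sq, ← mul_assoc] at this
  have hinv : tInv⁻¹ = tInv := inv_eq_of_mul_eq_one_right tInv_sq
  let U : Subgroup PG :=
    { carrier := {g | g ∈ K ∨ tInv * g ∈ K}
      one_mem' := Or.inl (one_mem _)
      mul_mem' := fun {a b} ha hb => by
        rcases ha with ha | ha <;> rcases hb with hb | hb
        · exact Or.inl (mul_mem ha hb)
        · right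
          have := mul_mem (hconj a ha) hb
          rwa [show tInv * a * tInv * (tInv * b) = tInv * a * (tInv * tInv) * b by simp [mul_assoc], tInv_sq,
            mul_one, mul_assoc] at this
        · exact Or.inr (mul_assoc tInv a b ▸ mul_mem ha hb)
        · left
          have := mul_mem (hconj _ ha) hb
          rwa [← mul_assoc tInv tInv a, tInv_sq, one_mul,
            show a * tInv * (tInv * b) = a * (tInv * tInv) * b by simp [mul_assoc], tInv_sq, mul_one] at this
      inv_mem' := fun {a} ha => by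
        rcases ha with ha | ha
        · exact Or.inl (inv_mem ha)
        · right
          have := hconj _ (inv_mem ha)
          rwa [mul_inv_rev, hinv, mul_assoc tInv (a⁻¹ * tInv), mul_assoc a⁻¹, tInv_sq, mul_one] at this }
  have hle : bigSub ≤ U := by
    rw [bigSub, Subgroup.closure_le]
    rintro g (⟨x, hx, rfl⟩ | rfl)
    · exact Or.inl (pgen_mem hx)
    · exact Or.inr (tInv_sq ▸ one_mem K)
  have hsub : (U : Set PG) ⊆ (K : Set PG) ∪ (fun k => tInv * k) '' (K : Set PG) := by
    rintro g (hg | hg)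
    · exact Or.inl hg
    · exact Or.inr ⟨_, hg, by simp only; rw [← mul_assoc, tInv_sq, one_mul]⟩
  have hKfin : (K : Set PG).Finite := Set.finite_coe_iff.1 hKf
  have hfin := (hKfin.union (hKfin.image _)).subset ((SetLike.coe_subset_coe.2 hle).trans hsub)
  refine ⟨Set.finite_coe_iff.2 hfin, ?_⟩
  have h1 := (Set.ncard_le_ncard ((SetLike.coe_subset_coe.2 hle).trans hsub) (hKfin.union (hKfin.image _))).trans
    ((Set.ncard_union_le _ _).trans (Nat.add_le_add_left (Set.ncard_image_le hKfin) _))
  have e : ∀ L : Subgroup PG, (L : Set PG).ncard = Nat.card ↥L := fun L => (Nat.card_coe_set_eq _).symm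
  rw [e, e] at h1
  omega

theorem card_PG : Finite PG ∧ Nat.card PG ≤ 4030387200 := by
  have hsub : ∀ u ∈ Coset.Full.P.subs, wprod pgen u ∈ bigSub := by
    intro u hu
    have hchk : (Coset.Full.P.subs.all fun v => wordEq v [1, 0, 1] ||
        v.all fun x => [0, 2, 3, 4, 5, 6].any fun y => Nat.beq x y) = true := by decide +kernel
    have h := List.all_eq_true.1 hchk u hu
    simp only [Bool.or_eq_true, List.all_eq_true, List.any_eq_true, Nat.beq_eq] at h
    rcases h with h | h
    · rw [eq_of_wordEq h]; exact Subgroup.subset_closure (Or.inr rfl)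
    · refine (Subgroup.closure_le _).2 (fun g hg => Subgroup.subset_closure (Or.inl hg)) (wprod_mem fun x hx => ?_)
      obtain ⟨y, hy, rfl⟩ := h x hx
      exact hy
  obtain ⟨hf, hi, -⟩ := index_bound (P := Coset.Full.P) (H := bigSub) pgen_invol
    (show Subgroup.closure (pgen '' {x | x < Coset.Full.P.k}) = ⊤ from Cfsg.Agent.CosetData.HeH.setup.closure_gen)
    (fun w hw => by
      have hchk : (Coset.Full.base.all fun v => Cfsg.Agent.CosetData.HeH.base.any fun u => wordEq v u) = true := by
        decide +kernel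
      obtain ⟨u, hu, he⟩ := List.any_eq_true.1 (List.all_eq_true.1 hchk w hw)
      rw [eq_of_wordEq he, base_one u hu])
    Coset.Full.rots_ok hsub Coset.Full.cert_ok Coset.Full.tab_ok (by norm_num)
  obtain ⟨hbf, hb⟩ := card_bigSub
  refine ⟨Finite.of_equiv _ (Subgroup.groupEquivQuotientProdSubgroup (s := bigSub)).symm, ?_⟩
  rw [← Subgroup.card_mul_index bigSub]
  exact (Nat.mul_le_mul hb hi).trans (by norm_num)

/-- The two words give the generators after relabelling. -/
noncomputable def relabelOK : Bool :=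
  permOK 2058 relabel && (word0 ++ word1).all (fun x => Nat.blt x 7) &&
    allB (fun i => Nat.beq (slot (nodes.getD 0 (0, 0)).1 i)
      (slot relabel.2 (tact Cfsg.Agent.CosetData.HeH.P word0.reverse (slot relabel.1 i)))) 2058 &&
    allB (fun i => Nat.beq (slot (nodes.getD 1 (0, 0)).1 i)
      (slot relabel.2 (tact Cfsg.Agent.CosetData.HeH.P word1.reverse (slot relabel.1 i)))) 2058

theorem relabel_ok : relabelOK = true := by decide +kernel

/-- The action of the presented group given by the table. -/
noncomputable def tableHom : PG →* Equiv.Perm (Fin 2058) := Cfsg.Agent.CosetData.HeH.setup.hom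

theorem tableHom_gen {x : ℕ} (hx : x < 7) : tableHom (pgen x) = genPerm Cfsg.Agent.CosetData.HeH.tab_ok x :=
  Cfsg.Agent.CosetData.HeH.setup.hom_gen x hx

/-- The action of the presented group on the points of the rigid graph. -/
noncomputable def toPerm : PG →* Equiv.Perm (Fin 2058) :=
  (MulAut.conj (permOf 2058 relabel)⁻¹).toMonoidHom.comp tableHom

theorem toPerm_val (hp : permOK 2058 relabel = true) (w : List ℕ) (hw : ∀ x ∈ w, x < 7) (i : Fin 2058) :
    (toPerm (wprod pgen w) i : ℕ) = slot relabel.2 (tact Cfsg.Agent.CosetData.HeH.P w.reverse (slot relabel.1 i)) := by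
  have hh : ∀ v : List ℕ, (∀ x ∈ v, x < 7) →
      tableHom (wprod pgen v) = wprod (genPerm Cfsg.Agent.CosetData.HeH.tab_ok) v := by
    intro v
    induction v with
    | nil => intro _; rw [wprod_nil, wprod_nil]; exact map_one _
    | cons x v ih =>
      intro hv
      rw [wprod_cons, wprod_cons, map_mul, tableHom_gen (hv x List.mem_cons_self),
        ih fun y hy => hv y (List.mem_cons_of_mem _ hy)]
  show ((((permOf 2058 relabel)⁻¹ * tableHom (wprod pgen w) * (permOf 2058 relabel)⁻¹⁻¹) i : Fin 2058) : ℕ) = _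
  rw [inv_inv, Equiv.Perm.mul_apply, Equiv.Perm.mul_apply, ← permOf_invE hp, permOf_val (permOK_invE hp), hh w hw]
  have hv := wprod_genPerm Cfsg.Agent.CosetData.HeH.tab_ok w.reverse
    (List.all_eq_true.2 fun x hx => Nat.blt_eq.mpr (hw x (List.mem_reverse.1 hx))) (permOf 2058 relabel i)
  rw [List.reverse_reverse] at hv
  rw [hv, permOf_val hp]
  rfl

theorem range_eq : toPerm.range = heGroup ∧ Function.Injective toPerm := by
  have hrel := relabel_ok
  simp only [relabelOK, Bool.and_eq_true] at hrel
  obtain ⟨⟨⟨hp, hw⟩, h0⟩, h1⟩ := hrel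
  have hlt : ∀ x ∈ word0 ++ word1, x < 7 := fun x hx => Nat.blt_eq.mp (List.all_eq_true.1 hw x hx)
  have val := toPerm_val hp
  have hge : heGroup ≤ toPerm.range := by
    rw [heGroup, grp, Subgroup.closure_le, Set.insert_subset_iff, Set.singleton_subset_iff]
    have hn := gen_lt slp_ok
    exact ⟨⟨wprod pgen word0, Equiv.ext fun i => Fin.ext (by
        rw [val _ (fun x hx => hlt x (List.mem_append_left _ hx)), permOf_val (node_ok slp_ok (by omega))]
        exact (Nat.eq_of_beq_eq_true (allB_spec h0 i.2)).symm)⟩,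
      ⟨wprod pgen word1, Equiv.ext fun i => Fin.ext (by
        rw [val _ (fun x hx => hlt x (List.mem_append_right _ hx)), permOf_val (node_ok slp_ok (by omega))]
        exact (Nat.eq_of_beq_eq_true (allB_spec h1 i.2)).symm)⟩⟩
  obtain ⟨hf, hc⟩ := card_PG
  have hr : Nat.card ↥toPerm.range ≤ Nat.card PG :=
    Nat.card_le_card_of_surjective _ toPerm.rangeRestrict_surjective
  have hge' := Subgroup.card_le_of_le hge
  rw [card_heGroup] at hge'
  refine ⟨(Subgroup.eq_of_le_of_card_ge hge (by rw [card_heGroup]; omega)).symm, ?_⟩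
  have hbij : Function.Bijective toPerm.rangeRestrict :=
    (Nat.bijective_iff_surjective_and_card _).2 ⟨toPerm.rangeRestrict_surjective, by omega⟩
  intro a b e
  exact hbij.1 (Subtype.ext e)

/-- The presented group is the group on 2058 points. -/
noncomputable def presentedEquiv : Cfsg.Spor.He ≃* ↥heGroup :=
  (MonoidHom.ofInjective range_eq.2).trans (MulEquiv.subgroupCongr range_eq.1)

end Cfsg.Agent.RigidGraph.He
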