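import Cfsg.Agent.Lib.RigidGraph.He.Cert
import Cfsg.Agent.Lib.RigidGraph.Main

/-! Kernel checks for the certificate on 2058 points. -/

set_option autoImplicit false
set_option maxRecDepth 100000
set_option Elab.async false

namespace Cfsg.Agent.RigidGraph.He

theorem graph_ok : graphOK 2058 graph = true := by decide +kernel

theorem slp_ok : slpOK 2058 nodes prog = true := by decide +kernel

theorem gens_aut : gensAut 2058 graph nodes = true := by decide +kernel

theorem levels_ok : levelsOK 2058 graph nodes [] levels = true := by decide +kernel

theorem rounds_ok : roundsOK 2058 graph [0, 37, 219, 44, 321, 221, 24] rounds = true := by decide +kernel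

theorem sep_ok : sepOK 2058 graph ([0, 37, 219, 44, 321, 221, 24] ++ rounds.flatten) ord = true := by
  decide +kernel

theorem ord_ok : ordOK 2058 nodes (7 ^ 1) (7 ^ 1) = true := by decide +kernel

/-- generators of the stabiliser of the first point -/
theorem cover_ok : coverOK 2058 nodes 0 [144, 394] cover = true := by decide +kernel

end Cfsg.Agent.RigidGraph.He
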