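import Cfsg.Agent.Lib.RigidGraph.He.Checks
import Cfsg.Prelude.Def_Sporadic

/-! The group on 2058 points: order and simplicity. -/

set_option autoImplicit false

namespace Cfsg.Agent.RigidGraph.He

attribute [local irreducible] rowsB rowsN nodes prog levels rounds ord cover graph

/-- The group. -/
noncomputable def heGroup : Subgroup (Equiv.Perm (Fin 2058)) := grp 2058 nodes

theorem levels_shape : levels.map (·.t) = [0, 37, 219, 44, 321, 221, 24] ∧
    levels.map (·.k) = [2058, 136, 36, 10, 5, 2, 4] := by
  unfold levels; exact ⟨rfl, rfl⟩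

theorem aut_fix_bot : autG 2058 graph ⊓ fixList 2058 [0, 37, 219, 44, 321, 221, 24] = ⊥ :=
  fix_eq_bot graph_ok (by decide) rounds_ok sep_ok

theorem card_heGroup : Nat.card ↥heGroup = 4030387200 := by
  rw [heGroup, card_grp_rigid graph_ok slp_ok gens_aut levels_ok (by rw [levels_shape.1]; exact aut_fix_bot),
    levels_shape.2]
  rfl

theorem levels_cons : ∃ L Ls, levels = L :: Ls ∧ L.k = 2058 := by
  unfold levels; exact ⟨_, _, rfl, rfl⟩

instance pretransitive_heGroup : MulAction.IsPretransitive ↥heGroup (Fin 2058) := by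
  obtain ⟨L, Ls, e, hk⟩ := levels_cons
  exact pretransitive slp_ok (e ▸ levels_ok) hk

theorem isHe_heGroup : Cfsg.IsHe ↥heGroup := by
  haveI : MulAction.IsPretransitive ↥(grp 2058 nodes) (Fin 2058) := pretransitive_heGroup
  refine ⟨isSimpleGroup_grp slp_ok (by norm_num) cover_ok (q := 7) (e := 3) (by norm_num) (by norm_num) ?_ ord_ok,
    card_heGroup⟩
  rw [show Nat.card ↥(grp 2058 nodes) = 4030387200 from card_heGroup]
  norm_num

theorem card_stab_heGroup : Nat.card (MulAction.stabilizer ↥heGroup (0 : Fin 2058)) = 1958400 := by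
  haveI : MulAction.IsPretransitive ↥(grp 2058 nodes) (Fin 2058) := pretransitive_heGroup
  have h : 2058 * Nat.card (MulAction.stabilizer ↥(grp 2058 nodes) (0 : Fin 2058)) = 4030387200 :=
    (card_stab (0 : Fin 2058)).trans card_heGroup
  exact Nat.eq_of_mul_eq_mul_left (by norm_num : 0 < 2058) (h.trans (by norm_num))

end Cfsg.Agent.RigidGraph.He
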