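import Cfsg.Agent.Lib.Compute.SchurDefs

/-! Tail certificates for the multiplier of the group on 2058 points. -/

set_option autoImplicit false
set_option maxRecDepth 100000

namespace Cfsg.Agent.RigidGraph.He.Mult

open Cfsg.Agent.PermSchur

/-- a sparse vector -/
def sv : Nat → List (Nat × Int) → List Int
  | n, [] => List.replicate n 0
  | n, e :: es => (sv n es).set e.1 e.2

/-- sequence words at 17 -/
def seventeenW : List (List ℕ) :=
  [[1, 0, 1, 1, 1, 1, 1, 0, 1, 1, 0, 1, 0, 2, 3, 3, 2, 3, 2, 4, 4, 4, 7, 3, 3, 3]]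

/-- conjugating words at 17 -/
def seventeenFW : List (List ℕ) :=
  []

/-- part of the data -/
def seventeenRels0 : List (Rel) :=
  [.assoc [0] [0, 0, 0, 0, 0, 0, 0, 0, 0, 0, 0, 0, 0, 0, 0, 0] [0]]

/-- the rules at 17 -/
def seventeenData : SchurData where
  p := 17
  a := List.replicate 1 (0, 0)
  derived := []
  levels := []
  pow := [[]]
  comm := [[]]
  ords := [17]
  fus := []
  nv := 1
  rels := ([seventeenRels0] : List (List (Rel))).flatten
  rows := []
  gs := []
  elts := []
  commWit := [[]]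
  conjWit := [[]]
  ext := []

/-- power witnesses at 17 -/
def seventeenChainP : List (List Nat) :=
  []

/-- conjugation witnesses at 17 -/
def seventeenChainC : List (List (List Nat)) :=
  []

/-- sequence words at 5 -/
def fiveW : List (List ℕ) :=
  [[0, 0, 1, 1, 1, 0, 1, 0, 0, 0, 1, 0, 0, 3, 3, 2, 2, 2, 3, 3, 2, 3, 3, 4, 3, 4, 5, 5, 5, 5, 5, 5, 5, 5, 5, 6, 6, 3], [1, 0, 0, 1, 1, 0, 1, 0, 1, 1, 1, 3, 2, 2, 3, 3, 3, 2, 2, 3, 4, 4, 5, 5, 5, 5, 5, 5, 5, 7]]

/-- conjugating words at 5 -/
def fiveFW : List (List ℕ) :=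
  [[1, 0, 0, 0, 0, 1, 0, 0, 0, 0, 0, 0, 2, 2, 2, 2, 3, 2, 3, 4, 3, 4, 4, 5, 5, 5]]

/-- part of the data -/
def fiveRels0 : List (Rel) :=
  [.assoc [0] [0, 0, 0, 0] [0],
    .assoc [1] [1, 1, 1, 1] [1],
    .assoc [1] [1, 1, 1, 1] [0],
    .assoc [1] [0] [0, 0, 0, 0],
    .fuse 0 [0, 0, 0, 0, 0] [],
    .fuse 0 [1, 1, 1, 1, 1] [],
    .fuse 0 [1, 0] [0, 1]]

/-- part of the data -/
def fiveRows0 : List (Nat × List Int × List (Nat × Int)) :=
  [(0, (sv 5 [(0, 1), (3, 5)]), [(4, 1)]),
    (1, (sv 5 [(1, 1), (4, 5)]), [(5, 1)]),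
    (2, (sv 5 [(2, 1)]), [(2, 1), (6, 2)])]

/-- the rules at 5 -/
def fiveData : SchurData where
  p := 5
  a := List.replicate 2 (0, 0)
  derived := []
  levels := []
  pow := [[], []]
  comm := [[], [[0, 1]]]
  ords := [5, 5]
  fus := [⟨(0, 0), [[0], [1]], [[0, 0], [1, 1]]⟩]
  nv := 5
  rels := ([fiveRels0] : List (List (Rel))).flatten
  rows := ([fiveRows0] : List (List (Nat × List Int × List (Nat × Int)))).flatten
  gs := []
  elts := []
  commWit := [[], [[]]]
  conjWit := [[], []]
  ext := []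

/-- power witnesses at 5 -/
def fiveChainP : List (List Nat) :=
  []

/-- conjugation witnesses at 5 -/
def fiveChainC : List (List (List Nat)) :=
  []

/-- sequence words at 3 -/
def threeW : List (List ℕ) :=
  [[1, 0, 0, 1, 0, 1, 1, 0, 1, 1, 1, 2, 2, 2, 2, 2, 2, 3, 3, 3, 4, 3, 4, 5, 5, 5, 5, 5, 6], [0, 0, 0, 0, 1, 1, 0, 1, 2, 3, 2, 3, 2, 3, 2, 4, 5, 5, 5, 3, 6, 7, 3, 3, 3], [0, 0, 0, 0, 1, 1, 2, 2, 3, 3, 3, 2, 2, 4, 4, 3, 3, 4, 5, 5, 5, 5, 5, 5, 5, 5, 6, 7]]

/-- conjugating words at 3 -/
def threeFW : List (List ℕ) :=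
  [[0, 0, 0, 1, 0, 1, 1, 0, 1, 1, 0, 3, 2, 2, 3, 3, 2, 2, 2, 4, 3, 4, 4, 6, 6, 7, 3, 3, 3]]

/-- part of the data -/
def threeRels0 : List (Rel) :=
  [.assoc [0] [0, 0] [0],
    .assoc [1] [1, 1] [1],
    .assoc [1] [1, 1] [0],
    .assoc [1] [0] [0, 0],
    .assoc [2] [2, 2] [2],
    .assoc [2] [2, 2] [0],
    .assoc [2] [0] [0, 0],
    .assoc [2] [2, 2] [1],
    .assoc [2] [1] [1, 1],
    .assoc [2] [1] [0],
    .fuse 0 [0, 0, 0] [],
    .fuse 0 [1, 1, 1] [],
    .fuse 0 [1, 0] [0, 1],
    .fuse 0 [2, 2, 2] [],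
    .fuse 0 [2, 0] [0, 2],
    .fuse 0 [2, 1] [0, 0, 1, 2]]

/-- part of the data -/
def threeRows0 : List (Nat × List Int × List (Nat × Int)) :=
  [(0, (sv 9 [(0, 1), (2, 1), (4, 3), (8, 3)]), [(13, 1)]),
    (1, (sv 9 [(1, 1), (2, -2), (3, 6), (4, -6), (7, 3), (8, -6)]), [(11, 1), (13, -2)]),
    (2, (sv 9 [(2, 2), (4, 3), (5, -3), (8, 6)]), [(7, 1), (13, 2)]),
    (3, (sv 9 [(3, 1)]), [(12, 1)]),
    (4, (sv 9 [(4, 1)]), [(14, 1)]),
    (6, (sv 9 [(6, 1)]), [(7, -2), (10, -1), (12, 4), (14, 10), (15, -2)])]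

/-- the rules at 3 -/
def threeData : SchurData where
  p := 3
  a := List.replicate 3 (0, 0)
  derived := []
  levels := []
  pow := [[], [], []]
  comm := [[], [[0, 1]], [[0, 2], [0, 0, 1, 2]]]
  ords := [3, 3, 3]
  fus := [⟨(0, 0), [[0], [1], [2]], [[0], [0, 0, 1, 1], [0, 2, 2]]⟩]
  nv := 9
  rels := ([threeRels0] : List (List (Rel))).flatten
  rows := ([threeRows0] : List (List (Nat × List Int × List (Nat × Int)))).flatten
  gs := [([0], (sv 9 [(2, 1), (5, -1), (8, 3)]))]
  elts := []
  commWit := [[], [[]], [[], [0, 0]]]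
  conjWit := [[[0]], [[0]], [[0]]]
  ext := []

/-- power witnesses at 3 -/
def threeChainP : List (List Nat) :=
  [[]]

/-- conjugation witnesses at 3 -/
def threeChainC : List (List (List Nat)) :=
  [[]]

/-- sequence words at 7 -/
def sevenW : List (List ℕ) :=
  [[1, 0, 1, 0, 0, 1, 0, 1, 1, 1, 0, 0, 3, 2, 2, 2, 3, 3, 3, 2, 4, 3, 4, 4, 4, 3, 4, 5, 5, 5, 5, 5, 5, 5, 6, 6], [0, 0, 0, 1, 1, 0, 0, 0, 1, 0, 1, 0, 2, 3, 2, 3, 2, 2, 2, 2, 2, 4, 3, 4, 6, 3], [0, 1, 0, 1, 1, 0, 1, 1, 0, 1, 0, 2, 3, 3, 2, 3, 2, 3, 3, 4, 4, 4, 3, 4, 5, 5, 5, 5, 5, 5, 5, 5, 6, 7, 3]]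

/-- conjugating words at 7 -/
def sevenFW : List (List ℕ) :=
  [[1, 0, 0, 0, 1, 1, 0, 1, 1, 1, 0, 3, 2, 3, 2, 2, 2, 2, 2, 2, 3, 3, 4, 5, 5, 7], [1, 1, 1, 1, 1, 1, 0, 1, 1, 0, 2, 3, 2, 3, 3, 3, 4, 5, 6, 6, 6, 3, 3, 3]]

/-- part of the data -/
def sevenRels0 : List (Rel) :=
  [.assoc [0] [0, 0, 0, 0, 0, 0] [0],
    .assoc [1] [1, 1, 1, 1, 1, 1] [1],
    .assoc [1] [1, 1, 1, 1, 1, 1] [0],
    .assoc [1] [0] [0, 0, 0, 0, 0, 0],
    .assoc [2] [2, 2, 2, 2, 2, 2] [2],
    .assoc [2] [2, 2, 2, 2, 2, 2] [0],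
    .assoc [2] [0] [0, 0, 0, 0, 0, 0],
    .assoc [2] [2, 2, 2, 2, 2, 2] [1],
    .assoc [2] [1] [1, 1, 1, 1, 1, 1],
    .assoc [2] [1] [0],
    .fuse 0 [0, 0, 0, 0, 0, 0, 0] [],
    .fuse 0 [1, 1, 1, 1, 1, 1, 1] [],
    .fuse 0 [1, 0] [0, 1],
    .fuse 0 [2, 2, 2, 2, 2, 2, 2] [],
    .fuse 0 [2, 0] [0, 2],
    .fuse 0 [2, 1] [0, 0, 0, 1, 2],
    .fuse 1 [0, 0, 0, 0, 0, 0, 0] [],
    .fuse 1 [1, 1, 1, 1, 1, 1, 1] [],
    .fuse 1 [1, 0] [0, 1],
    .fuse 1 [2, 2, 2, 2, 2, 2, 2] [],
    .fuse 1 [2, 0] [0, 2],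
    .fuse 1 [2, 1] [0, 0, 0, 1, 2]]

/-- part of the data -/
def sevenRows0 : List (Nat × List Int × List (Nat × Int)) :=
  [(0, (sv 12 [(0, 1), (4, -49), (5, -7), (6, 7)]), [(7, 1), (10, 1)]),
    (1, (sv 12 [(1, 1), (3, -231), (4, -140), (5, -14), (6, 14), (7, 7), (10, -14)]), [(7, 2), (10, 2), (11, 1), (17, -2)]),
    (2, (sv 12 [(2, 3), (4, 280), (5, 28), (6, -28), (11, 7)]), [(7, -4), (10, -4), (19, 1)]),
    (3, (sv 12 [(3, 1), (4, -12)]), [(2, -13), (14, -3)]),
    (4, (sv 12 [(4, 1)]), [(5, 8), (20, 3)]),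
    (5, (sv 12 [(5, 1), (6, 61229), (7, 4214), (8, 7), (9, -60192), (10, -10556), (11, 2128)]), [(2, 1730079), (5, -8646992), (7, 28811), (10, 8747), (11, 602), (13, 1), (14, 399249), (17, -1508), (19, 304), (20, -3242622), (21, 20064)]),
    (6, (sv 12 [(6, 1), (9, -1)]), [(2, 14820), (5, -93648), (7, 98), (10, 1), (14, 3420), (15, 2), (16, 29), (20, -35118), (21, 68)]),
    (7, (sv 12 [(7, 14), (8, 14), (9, -28), (10, -77), (11, 49)]), [(2, -6728631), (5, 42532056), (7, -44364), (10, -390), (11, 2), (13, 2), (14, -1552761), (15, -910), (16, -13195), (17, -11), (19, 7), (20, 15949521), (21, -30779)])]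

/-- part of the data -/
def sevenRows1 : List (Nat × List Int × List (Nat × Int)) :=
  [(8, (sv 12 [(8, 28), (9, -63), (10, -84), (11, 84)]), [(2, -7451808), (5, 47100312), (7, -49131), (10, -432), (13, 4), (14, -1719648), (15, -1008), (16, -14616), (17, -12), (19, 12), (20, 17662617), (21, -34083)])]

/-- the rules at 7 -/
def sevenData : SchurData where
  p := 7
  a := List.replicate 3 (0, 0)
  derived := []
  levels := []
  pow := [[], [], []]
  comm := [[], [[0, 1]], [[0, 2], [0, 0, 0, 1, 2]]]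
  ords := [7, 7, 7]
  fus := [⟨(0, 0), [[0], [1], [2]], [[0, 0, 0, 0, 0], [0, 0, 1, 1, 1, 1, 1, 1, 2, 2, 2, 2, 2, 2], [0, 0, 0, 1, 1, 1, 1, 1, 1, 2]]⟩,
    ⟨(0, 0), [[0], [1], [2]], [[0, 0, 0, 0, 0], [0, 0, 1, 1, 1, 2, 2, 2], [0, 0, 0, 0, 2, 2, 2, 2]]⟩]
  nv := 12
  rels := ([sevenRels0] : List (List (Rel))).flatten
  rows := ([sevenRows0, sevenRows1] : List (List (Nat × List Int × List (Nat × Int)))).flatten
  gs := [([0], (sv 12 [(8, 21), (9, -47), (10, -63), (11, 63)]))]
  elts := []
  commWit := [[], [[]], [[], [0, 0, 0]]]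
  conjWit := [[[0]], [[0]], [[0]]]
  ext := []

/-- power witnesses at 7 -/
def sevenChainP : List (List Nat) :=
  [[]]

/-- conjugation witnesses at 7 -/
def sevenChainC : List (List (List Nat)) :=
  [[]]

/-- sequence words at 2 -/
def twoW : List (List ℕ) :=
  [[0, 0, 1, 1, 0, 0, 1, 0, 0, 2, 3, 2, 5, 5, 3, 6], [0, 0, 0, 1, 0, 1, 0, 1, 0, 0, 0, 1, 3, 3, 2, 2, 2, 3, 2, 4, 3, 3, 4, 4, 4, 5, 5, 5, 5, 6, 6, 3, 3, 3], [0, 0, 1, 1, 0, 0, 1, 0, 0, 2, 3, 2, 3, 2, 2, 2, 2, 2, 4, 5, 6, 6], [0, 0, 0, 1, 0, 1, 0, 0, 0, 1, 1, 1, 3, 3, 2, 3, 2, 4, 3, 3, 4, 3, 4, 5, 5, 5, 5, 5, 5, 5, 3, 6, 7], [2, 2, 2, 3, 3, 3, 2, 3, 3, 4, 4, 4, 3, 4, 5, 6, 6, 6, 7, 3], [0, 1, 1, 0, 0, 0, 1, 0, 3, 2, 3, 2, 3, 2, 3, 4, 5, 3, 6, 3, 3, 3], [0, 1, 1, 1, 1, 0, 1, 3, 2, 3, 2, 2, 2, 2, 2, 2, 4, 3, 3, 4, 4, 3, 4, 6, 6, 7, 3], [0, 1, 1, 1, 1, 0, 0, 1, 3, 3, 2, 2, 2, 4, 3, 3, 4, 5, 5, 5, 5, 5, 5, 5, 5, 5, 7, 3], [0, 1, 1, 1, 1, 0, 0, 0, 1, 1, 0, 0, 0, 3, 2, 2, 2, 3, 3, 2, 3, 4, 3, 4, 5, 5, 5, 5, 5, 5, 5, 5, 3], [0, 1,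 0, 0, 0, 0, 1, 0, 0, 0, 0, 0, 0, 3, 3, 3, 2, 3, 2, 2, 2, 3, 4, 5, 5, 5, 5, 5, 5, 5, 5, 5, 6, 3, 3, 3]]

/-- conjugating words at 2 -/
def twoFW : List (List ℕ) :=
  [[0, 1, 0, 1, 0, 0, 1, 1, 0, 0, 3, 3, 3, 2, 2, 2, 2, 4, 3, 4, 5, 5, 3, 6, 3, 3], [0, 1, 0, 0, 1, 1, 1, 1, 2, 2, 3, 2, 2, 2, 2, 2, 2, 3, 3, 3, 4, 3, 4, 4, 5, 6, 6, 7, 3], [0, 0, 0, 1, 1, 0, 1, 2, 2, 2, 2, 3, 3, 3, 4, 3, 4, 6, 7, 3, 3, 3]]

/-- part of the data -/
def twoRels0 : List (Rel) :=
  [.assoc [0] [0] [0],
    .assoc [1] [1] [1],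
    .assoc [1] [1] [0],
    .assoc [1] [0] [0],
    .assoc [2] [2] [2],
    .assoc [2] [2] [0],
    .assoc [2] [0] [0],
    .assoc [2] [2] [1],
    .assoc [2] [1] [1],
    .assoc [2] [1] [0],
    .assoc [3] [3] [3],
    .assoc [3] [3] [0],
    .assoc [3] [0] [0],
    .assoc [3] [3] [1],
    .assoc [3] [1] [1],
    .assoc [3] [1] [0],
    .assoc [3] [3] [2],
    .assoc [3] [2] [2],
    .assoc [3] [2] [0],
    .assoc [3] [2] [1],
    .assoc [4] [4] [4],
    .assoc [4] [4] [0],
    .assoc [4] [0] [0],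
    .assoc [4] [4] [1],
    .assoc [4] [1] [1],
    .assoc [4] [1] [0],
    .assoc [4] [4] [2],
    .assoc [4] [2] [2],
    .assoc [4] [2] [0],
    .assoc [4] [2] [1]]

/-- part of the data -/
def twoRels1 : List (Rel) :=
  [.assoc [4] [4] [3],
    .assoc [4] [3] [3],
    .assoc [4] [3] [0],
    .assoc [4] [3] [1],
    .assoc [4] [3] [2],
    .assoc [5] [5] [5],
    .assoc [5] [5] [0],
    .assoc [5] [0] [0],
    .assoc [5] [5] [1],
    .assoc [5] [1] [1],
    .assoc [5] [1] [0],
    .assoc [5] [5] [2],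
    .assoc [5] [2] [2],
    .assoc [5] [2] [0],
    .assoc [5] [2] [1],
    .assoc [5] [5] [3],
    .assoc [5] [3] [3],
    .assoc [5] [3] [0],
    .assoc [5] [3] [1],
    .assoc [5] [3] [2],
    .assoc [5] [5] [4],
    .assoc [5] [4] [4],
    .assoc [5] [4] [0],
    .assoc [5] [4] [1],
    .assoc [5] [4] [2],
    .assoc [5] [4] [3],
    .assoc [6] [6] [6],
    .assoc [6] [6] [0],
    .assoc [6] [0] [0],
    .assoc [6] [6] [1]]

/-- part of the data -/
def twoRels2 : List (Rel) :=
  [.assoc [6] [1] [1],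
    .assoc [6] [1] [0],
    .assoc [6] [6] [2],
    .assoc [6] [2] [2],
    .assoc [6] [2] [0],
    .assoc [6] [2] [1],
    .assoc [6] [6] [3],
    .assoc [6] [3] [3],
    .assoc [6] [3] [0],
    .assoc [6] [3] [1],
    .assoc [6] [3] [2],
    .assoc [6] [6] [4],
    .assoc [6] [4] [4],
    .assoc [6] [4] [0],
    .assoc [6] [4] [1],
    .assoc [6] [4] [2],
    .assoc [6] [4] [3],
    .assoc [6] [6] [5],
    .assoc [6] [5] [5],
    .assoc [6] [5] [0],
    .assoc [6] [5] [1],
    .assoc [6] [5] [2],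
    .assoc [6] [5] [3],
    .assoc [6] [5] [4],
    .assoc [7] [7] [7],
    .assoc [7] [7] [0],
    .assoc [7] [0] [0],
    .assoc [7] [7] [1],
    .assoc [7] [1] [1],
    .assoc [7] [1] [0]]

/-- part of the data -/
def twoRels3 : List (Rel) :=
  [.assoc [7] [7] [2],
    .assoc [7] [2] [2],
    .assoc [7] [2] [0],
    .assoc [7] [2] [1],
    .assoc [7] [7] [3],
    .assoc [7] [3] [3],
    .assoc [7] [3] [0],
    .assoc [7] [3] [1],
    .assoc [7] [3] [2],
    .assoc [7] [7] [4],
    .assoc [7] [4] [4],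
    .assoc [7] [4] [0],
    .assoc [7] [4] [1],
    .assoc [7] [4] [2],
    .assoc [7] [4] [3],
    .assoc [7] [7] [5],
    .assoc [7] [5] [5],
    .assoc [7] [5] [0],
    .assoc [7] [5] [1],
    .assoc [7] [5] [2],
    .assoc [7] [5] [3],
    .assoc [7] [5] [4],
    .assoc [7] [7] [6],
    .assoc [7] [6] [6],
    .assoc [7] [6] [0],
    .assoc [7] [6] [1],
    .assoc [7] [6] [2],
    .assoc [7] [6] [3],
    .assoc [7] [6] [4],
    .assoc [7] [6] [5]]

/-- part of the data -/
def twoRels4 : List (Rel) :=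
  [.assoc [8] [8] [8],
    .assoc [8] [8] [0],
    .assoc [8] [0] [0],
    .assoc [8] [8] [1],
    .assoc [8] [1] [1],
    .assoc [8] [1] [0],
    .assoc [8] [8] [2],
    .assoc [8] [2] [2],
    .assoc [8] [2] [0],
    .assoc [8] [2] [1],
    .assoc [8] [8] [3],
    .assoc [8] [3] [3],
    .assoc [8] [3] [0],
    .assoc [8] [3] [1],
    .assoc [8] [3] [2],
    .assoc [8] [8] [4],
    .assoc [8] [4] [4],
    .assoc [8] [4] [0],
    .assoc [8] [4] [1],
    .assoc [8] [4] [2],
    .assoc [8] [4] [3],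
    .assoc [8] [8] [5],
    .assoc [8] [5] [5],
    .assoc [8] [5] [0],
    .assoc [8] [5] [1],
    .assoc [8] [5] [2],
    .assoc [8] [5] [3],
    .assoc [8] [5] [4],
    .assoc [8] [8] [6],
    .assoc [8] [6] [6]]

/-- part of the data -/
def twoRels5 : List (Rel) :=
  [.assoc [8] [6] [0],
    .assoc [8] [6] [1],
    .assoc [8] [6] [2],
    .assoc [8] [6] [3],
    .assoc [8] [6] [4],
    .assoc [8] [6] [5],
    .assoc [8] [8] [7],
    .assoc [8] [7] [7],
    .assoc [8] [7] [0],
    .assoc [8] [7] [1],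
    .assoc [8] [7] [2],
    .assoc [8] [7] [3],
    .assoc [8] [7] [4],
    .assoc [8] [7] [5],
    .assoc [8] [7] [6],
    .assoc [9] [9] [9],
    .assoc [9] [9] [0],
    .assoc [9] [0] [0],
    .assoc [9] [9] [1],
    .assoc [9] [1] [1],
    .assoc [9] [1] [0],
    .assoc [9] [9] [2],
    .assoc [9] [2] [2],
    .assoc [9] [2] [0],
    .assoc [9] [2] [1],
    .assoc [9] [9] [3],
    .assoc [9] [3] [3],
    .assoc [9] [3] [0],
    .assoc [9] [3] [1],
    .assoc [9] [3] [2]]

/-- part of the data -/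
def twoRels6 : List (Rel) :=
  [.assoc [9] [9] [4],
    .assoc [9] [4] [4],
    .assoc [9] [4] [0],
    .assoc [9] [4] [1],
    .assoc [9] [4] [2],
    .assoc [9] [4] [3],
    .assoc [9] [9] [5],
    .assoc [9] [5] [5],
    .assoc [9] [5] [0],
    .assoc [9] [5] [1],
    .assoc [9] [5] [2],
    .assoc [9] [5] [3],
    .assoc [9] [5] [4],
    .assoc [9] [9] [6],
    .assoc [9] [6] [6],
    .assoc [9] [6] [0],
    .assoc [9] [6] [1],
    .assoc [9] [6] [2],
    .assoc [9] [6] [3],
    .assoc [9] [6] [4],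
    .assoc [9] [6] [5],
    .assoc [9] [9] [7],
    .assoc [9] [7] [7],
    .assoc [9] [7] [0],
    .assoc [9] [7] [1],
    .assoc [9] [7] [2],
    .assoc [9] [7] [3],
    .assoc [9] [7] [4],
    .assoc [9] [7] [5],
    .assoc [9] [7] [6]]

/-- part of the data -/
def twoRels7 : List (Rel) :=
  [.assoc [9] [9] [8],
    .assoc [9] [8] [8],
    .assoc [9] [8] [0],
    .assoc [9] [8] [1],
    .assoc [9] [8] [2],
    .assoc [9] [8] [3],
    .assoc [9] [8] [4],
    .assoc [9] [8] [5],
    .assoc [9] [8] [6],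
    .assoc [9] [8] [7],
    .fuse 0 [0, 0] [],
    .fuse 0 [1, 1] [],
    .fuse 0 [1, 0] [0, 1],
    .fuse 0 [2, 2] [],
    .fuse 0 [2, 0] [0, 2],
    .fuse 0 [2, 1] [1, 2],
    .fuse 0 [3, 3] [0],
    .fuse 0 [3, 0] [0, 3],
    .fuse 0 [3, 1] [1, 3],
    .fuse 0 [3, 2] [2, 3],
    .fuse 0 [4, 4] [],
    .fuse 0 [4, 0] [0, 4],
    .fuse 0 [4, 1] [1, 4],
    .fuse 0 [4, 2] [2, 4],
    .fuse 0 [4, 3] [0, 3, 4],
    .fuse 0 [5, 5] [0],
    .fuse 0 [5, 0] [0, 5],
    .fuse 0 [5, 1] [1, 5],
    .fuse 0 [5, 2] [0, 2, 5],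
    .fuse 0 [5, 3] [0, 3, 5]]

/-- part of the data -/
def twoRels8 : List (Rel) :=
  [.fuse 0 [5, 4] [4, 5],
    .fuse 0 [6, 6] [],
    .fuse 0 [6, 0] [0, 6],
    .fuse 0 [6, 1] [0, 1, 6],
    .fuse 0 [6, 2] [0, 2, 6],
    .fuse 0 [6, 3] [0, 3, 6],
    .fuse 0 [6, 4] [0, 4, 6],
    .fuse 0 [6, 5] [0, 5, 6],
    .fuse 0 [7, 7] [0, 1],
    .fuse 0 [7, 0] [0, 7],
    .fuse 0 [7, 1] [1, 7],
    .fuse 0 [7, 2] [1, 2, 7],
    .fuse 0 [7, 3] [3, 7],
    .fuse 0 [7, 4] [0, 4, 7],
    .fuse 0 [7, 5] [1, 5, 7],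
    .fuse 0 [7, 6] [1, 2, 4, 5, 6, 7],
    .fuse 1 [0, 0] [],
    .fuse 1 [1, 1] [],
    .fuse 1 [1, 0] [0, 1],
    .fuse 1 [2, 2] [],
    .fuse 1 [2, 0] [0, 2],
    .fuse 1 [2, 1] [1, 2],
    .fuse 1 [3, 3] [],
    .fuse 1 [3, 0] [0, 3],
    .fuse 1 [3, 1] [1, 3],
    .fuse 1 [3, 2] [2, 3],
    .fuse 1 [4, 4] [],
    .fuse 1 [4, 0] [0, 4],
    .fuse 1 [4, 1] [1, 4],
    .fuse 1 [4, 2] [2, 4]]

/-- part of the data -/
def twoRels9 : List (Rel) :=
  [.fuse 1 [4, 3] [3, 4],
    .fuse 1 [5, 5] [],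
    .fuse 1 [5, 0] [0, 5],
    .fuse 1 [5, 1] [1, 5],
    .fuse 1 [5, 2] [2, 5],
    .fuse 1 [5, 3] [3, 5],
    .fuse 1 [5, 4] [4, 5],
    .fuse 2 [0, 0] [],
    .fuse 2 [1, 1] [],
    .fuse 2 [1, 0] [0, 1],
    .fuse 2 [2, 2] [],
    .fuse 2 [2, 0] [0, 2],
    .fuse 2 [2, 1] [1, 2],
    .fuse 2 [3, 3] [],
    .fuse 2 [3, 0] [0, 3],
    .fuse 2 [3, 1] [1, 3],
    .fuse 2 [3, 2] [2, 3],
    .fuse 2 [4, 4] [0],
    .fuse 2 [4, 0] [0, 4],
    .fuse 2 [4, 1] [1, 4],
    .fuse 2 [4, 2] [0, 2, 4],
    .fuse 2 [4, 3] [3, 4],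
    .fuse 2 [5, 5] [],
    .fuse 2 [5, 0] [0, 5],
    .fuse 2 [5, 1] [0, 1, 5],
    .fuse 2 [5, 2] [0, 2, 5],
    .fuse 2 [5, 3] [0, 3, 5],
    .fuse 2 [5, 4] [0, 4, 5],
    .fuse 2 [6, 6] [],
    .fuse 2 [6, 0] [0, 6]]

/-- part of the data -/
def twoRels10 : List (Rel) :=
  [.fuse 2 [6, 1] [1, 6],
    .fuse 2 [6, 2] [2, 6],
    .fuse 2 [6, 3] [3, 6],
    .fuse 2 [6, 4] [4, 6],
    .fuse 2 [6, 5] [0, 1, 3, 5, 6],
    .fuse 2 [7, 7] [],
    .fuse 2 [7, 0] [0, 7],
    .fuse 2 [7, 1] [1, 7],
    .fuse 2 [7, 2] [2, 7],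
    .fuse 2 [7, 3] [3, 7],
    .fuse 2 [7, 4] [0, 1, 3, 4, 7],
    .fuse 2 [7, 5] [5, 7],
    .fuse 2 [7, 6] [6, 7]]

/-- part of the data -/
def twoRows0 : List (Nat × List Int × List (Nat × Int)) :=
  [(0, (sv 77 [(0, 1), (16, 1), (19, 2)]), [(30, -1)]),
    (1, (sv 77 [(1, 1), (32, 1), (34, 2)]), [(94, -1)]),
    (2, (sv 77 [(2, 1), (7, 1), (12, 1), (32, 1), (33, 1), (64, 2)]), [(257, 1)]),
    (3, (sv 77 [(3, 1), (4, 1), (6, 1), (7, 1), (12, 1), (13, 2), (19, -3), (28, 1), (29, 1), (32, 1), (33, 1), (57, 2), (64, 2)]), [(30, 2), (223, 1), (257, 1)]),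
    (4, (sv 77 [(4, 1), (16, 1), (17, 1), (19, 2), (32, -1), (34, -2), (69, 2)]), [(30, -1), (94, 1), (277, 1)]),
    (5, (sv 77 [(5, 1), (6, 1), (16, -1), (17, 1), (19, -2), (20, 2), (25, 1), (30, 1), (32, -1), (34, -2), (59, 2), (69, 2)]), [(30, 1), (94, 1), (230, 1), (277, 1)]),
    (6, (sv 77 [(6, 1), (7, 1), (11, -2), (16, 1), (17, 1), (19, 2), (20, 1), (22, -1), (30, 1), (32, 1), (33, 1), (46, -1), (48, -1), (51, -1), (52, -2), (59, 2), (64, 2), (69, 2)]), [(30, -1), (193, 1), (230, 1), (257, 1), (277, 1)]),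
    (7, (sv 77 [(7, 1), (11, -1), (12, 1), (13, -1), (15, -1), (16, 1), (19, 2), (32, 1), (33, 1), (38, 1), (41, -2), (64, 2)]), [(30, -1), (131, -1), (257, 1)])]

/-- part of the data -/
def twoRows1 : List (Nat × List Int × List (Nat × Int)) :=
  [(8, (sv 77 [(8, 1), (9, 1), (10, 3), (12, -1), (13, -1), (14, 1), (15, 1), (16, 1), (17, 3), (19, 7), (20, 1), (22, -1), (28, -1), (29, -1), (30, 1), (32, -4), (33, -1), (34, -6), (38, 1), (39, 1), (40, 1), (41, 1), (45, 1), (46, -1), (48, -1), (49, 1), (51, -1), (52, -2), (54, 1), (57, -2), (59, 2), (64, -2), (68, -2), (69, 6)]), [(30, -4), (94, 3), (193, 1), (223, -1), (230, 1), (257, -1), (271, -1), (277, 3)]),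
    (9, (sv 77 [(9, 1), (10, 1), (11, -2), (12, -1), (13, -2), (14, 1), (16, -2), (18, -2), (19, 13), (20, -1), (21, -3), (22, -1), (24, -2), (25, 1), (28, -1), (29, -1), (30, 1), (31, -3), (32, -6), (33, -1), (34, -6), (35, -2), (36, -1), (38, -1), (39, -2), (40, -1), (41, -1), (42, -1), (43, -1), (45, -1), (46, -1), (48, -1), (49, 1), (50, -1), (51, -1), (55, 1), (56, 1), (57, -2), (59, 2), (62, -2), (68, -2), (69, 8)]), [(30, -7), (94, 3), (131, -1), (223, -1), (230, 1), (248, -1), (271, -1), (277, 4)]),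
    (10, (sv 77 [(10, 1)]), [(33, -1)]),
    (11, (sv 77 [(11, 1)]), [(34, -1)]),
    (12, (sv 77 [(12, 1)]), [(98, -1)]),
    (13, (sv 77 [(13, 1)]), [(10, -1)]),
    (14, (sv 77 [(14, 1)]), [(98, -1), (179, 1)]),
    (15, (sv 77 [(15, 1), (34, 1), (38, -2), (40, -1)]), [(10, 1), (33, -1), (130, 1), (131, 1)])]

/-- part of the data -/
def twoRows2 : List (Nat × List Int × List (Nat × Int)) :=
  [(16, (sv 77 [(16, 1)]), [(54, 1)]),
    (17, (sv 77 [(17, 1)]), [(139, 1)]),
    (18, (sv 77 [(18, 1), (35, -1)]), [(264, 1)]),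
    (19, (sv 77 [(19, 1), (38, -1), (42, -1), (50, -1)]), [(10, -1), (54, 1), (263, 1)]),
    (20, (sv 77 [(20, 1)]), [(35, -1)]),
    (21, (sv 77 [(21, 1), (32, -1)]), [(208, -1)]),
    (22, (sv 77 [(22, 1), (26, -1), (32, -1), (46, 1)]), [(33, 1), (34, -2), (35, -1), (98, -1), (200, -1), (208, -1)]),
    (23, (sv 77 [(23, 1), (24, 1), (25, -1), (28, 1), (29, 1), (30, -1), (35, -1), (38, -2), (42, -2), (50, -2)]), [(10, -3), (30, 1), (35, 2), (54, 5), (233, 1), (263, 2), (264, 1)])]

/-- part of the data -/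
def twoRows3 : List (Nat × List Int × List (Nat × Int)) :=
  [(24, (sv 77 [(24, 1), (31, 1), (32, 1)]), [(33, -1), (35, 1), (54, 1), (119, -1), (208, 1)]),
    (25, (sv 77 [(25, 1)]), [(10, 1), (54, 1), (76, -1)]),
    (26, (sv 77 [(26, 1), (31, -1), (38, -1), (42, -1), (50, -1)]), [(10, -2), (30, 1), (98, -1), (117, 1), (139, -1), (179, 1), (263, 1)]),
    (27, (sv 77 [(27, 1), (28, -1), (31, 1), (55, 1)]), [(10, 2), (30, -1), (33, -2), (54, 1), (98, 2), (117, -1), (179, -2), (244, -1)]),
    (28, (sv 77 [(28, 1), (31, 1), (32, 2), (38, -1), (42, -1), (46, -1), (50, -1), (55, -2)]), [(10, -1), (33, 2), (34, 1), (35, 3), (54, 3), (98, 1), (117, -1), (139, 2), (200, 1), (208, 2), (234, 1), (244, 1), (263, 1)]),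
    (29, (sv 77 [(29, 1), (31, 1), (38, -3), (42, -3), (50, -3), (61, 2), (69, -2)]), [(10, -2), (30, 1), (33, 1), (54, 4), (98, 1), (117, -1), (139, 1), (179, -1), (241, 1), (263, 3), (277, -1)]),
    (30, (sv 77 [(30, 1), (31, 4), (32, 4), (34, 1), (35, 1), (38, -5), (40, -1), (42, -3), (46, -2), (50, -3), (55, -2), (61, 2), (69, -2)]), [(10, -1), (33, 2), (34, 4), (35, 4), (54, 5), (76, 1), (98, 4), (117, -3), (119, -1), (130, 1), (131, 1), (139, 4), (179, -2), (198, 1), (200, 1), (208, 4), (233, -1), (234, 1), (241, 1), (244, 1), (263, 3), (264, -1), (277, -1)]),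
    (31, (sv 77 [(31, 1)]), [(109, -1)])]

/-- part of the data -/
def twoRows4 : List (Nat × List Int × List (Nat × Int)) :=
  [(32, (sv 77 [(32, 1)]), [(160, 1)]),
    (33, (sv 77 [(33, 1), (34, 2), (39, -1), (40, -2)]), [(94, -1), (126, 1), (160, -1)]),
    (34, (sv 77 [(34, 1), (35, 1), (38, -3), (40, 1), (41, -2), (42, -2), (50, -2), (56, 2), (69, -2)]), [(10, -2), (30, 1), (54, 2), (98, 2), (127, 1), (130, 1), (221, 1), (263, 2), (264, -1), (277, -1)]),
    (35, (sv 77 [(35, 1)]), [(109, 1), (163, 1)]),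
    (36, (sv 77 [(36, 1), (38, 3), (40, -2), (42, 3), (43, -2), (50, 4), (69, 2)]), [(10, 4), (30, -2), (54, -5), (98, -1), (127, -1), (139, -1), (141, 1), (263, -4), (277, 1)]),
    (37, (sv 77 [(37, 1), (38, -5), (39, -1), (40, 1), (41, -4), (42, -3), (43, -1), (44, -2), (46, 1), (48, 1), (50, -2), (51, 1), (52, 2), (56, 4), (69, -2)]), [(10, -3), (30, 1), (33, -3), (34, -1), (35, 1), (54, 3), (76, 1), (94, 1), (98, 4), (109, -1), (119, -1), (127, 2), (130, 2), (139, -1), (148, 1), (160, 1), (163, -2), (193, -1), (221, 2), (263, 2), (264, -2), (277, -1)]),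
    (38, (sv 77 [(38, 1)]), [(34, -1), (54, 1), (109, 1), (140, -1), (163, 1), (264, 1)]),
    (39, (sv 77 [(39, 1), (46, -1), (47, 1)]), [(10, -1), (34, -1), (54, 1), (98, 1), (109, 1), (140, -1), (163, 1), (179, -1), (263, 1), (264, 1), (306, 1)])]

/-- part of the data -/
def twoRows5 : List (Nat × List Int × List (Nat × Int)) :=
  [(40, (sv 77 [(40, 1), (46, 1), (47, -2), (48, -1)]), [(10, 2), (94, 1), (98, -2), (109, 1), (126, -1), (130, 1), (131, 1), (179, 2), (215, 1), (263, -2), (306, -2)]),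
    (41, (sv 77 [(41, 1), (42, 3), (43, -1), (46, -11), (47, 5), (48, -1), (49, -1), (50, 3), (56, -1), (69, 2)]), [(10, 10), (30, -8), (33, 7), (34, 31), (35, 6), (54, -22), (94, -4), (98, 22), (109, -9), (117, -6), (119, 5), (126, 2), (127, -1), (130, -7), (131, -6), (139, 4), (140, 11), (160, 3), (163, -7), (179, -16), (198, 1), (200, 5), (208, -4), (221, -1), (237, 6), (254, -1), (263, 1), (264, -9), (277, 1), (306, 5)]),
    (42, (sv 77 [(42, 1), (43, -1), (44, -2), (45, 1), (46, 8), (47, -8), (48, -3), (50, 6), (51, 1), (52, 2), (53, 1), (55, -1), (61, -2), (69, 5)]), [(10, 9), (30, -1), (33, -5), (34, -12), (35, 1), (54, 2), (76, 3), (94, 5), (98, -17), (109, 8), (117, 1), (119, -4), (126, -4), (130, 7), (131, 7), (136, -2), (139, 1), (148, 1), (163, 1), (179, 12), (193, -1), (200, -2), (208, 2), (215, 4), (234, 1), (237, -3), (241, -1), (263, -13), (277, 3), (295, 1), (306, -8)]),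
    (43, (sv 77 [(43, 1), (44, 14), (45, -7), (46, -55), (47, 53), (48, 15), (50, -30), (51, -7), (52, -14), (53, -7), (55, 8), (61, 14), (69, -29)]), [(10, -47), (30, 1), (33, 35), (34, 108), (35, -6), (54, -50), (76, -21), (94, -34), (98, 115), (109, -73), (117, -6), (119, 28), (126, 27), (127, -1), (130, -49), (131, -49), (136, 12), (139, -15), (140, 16), (141, 1), (142, -2), (148, -7), (163, -24), (172, -2), (179, -82), (193, 7), (200, 14), (208, -15), (215, -26), (234, -8), (237, 23), (241, 7), (263, 76), (264, -16), (277, -18), (290, 1), (295, -8), (306, 53)]),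
    (44, (sv 77 [(44, 1), (45, 613), (46, 1530), (47, -1129), (48, -547), (49, 2), (50, 1221), (51, -68), (52, -1), (53, 613), (55, -672), (61, -1222), (69, 1221)]), [(10, 2274), (30, -599), (33, -141), (34, -722), (35, 1228), (54, 96), (76, 1157), (94, 220), (98, -1992), (109, 765), (112, -272), (117, -591), (119, -829), (126, -285), (127, 127), (130, 895), (131, 894), (136, -708), (139, 1327), (140, 1533), (141, -126), (142, -162), (160, -1239), (163, -1284), (172, -162), (179, 1206), (193, 1), (198, -1), (200, -79), (208, 1499), (215, 156), (218, 68), (221, 1), (233, -1), (234, 670), (237, -737), (241, -611), (244, 1), (253, 1), (254, 2), (263, -1736), (264, -1470), (277, 917), (290, 13), (295, 600), (306, -1061)]),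
    (45, (sv 77 [(45, 1)]), [(120, -1)]),
    (46, (sv 77 [(46, 1)]), [(165, -1)]),
    (47, (sv 77 [(47, 1)]), [(98, 1), (160, 1), (179, -1), (206, -1)])]

/-- part of the data -/
def twoRows6 : List (Nat × List Int × List (Nat × Int)) :=
  [(48, (sv 77 [(48, 1), (50, -14), (53, 5), (54, 2), (56, 4), (64, -4), (69, -6), (71, 2)]), [(10, -19), (30, 7), (33, 2), (34, -11), (54, 32), (94, -2), (98, 2), (109, 11), (126, 3), (127, 2), (130, -2), (131, -2), (136, 7), (139, 1), (140, -14), (160, -5), (163, 11), (165, -2), (172, -1), (202, 2), (206, 5), (210, -1), (215, -2), (221, 2), (257, -2), (263, 19), (264, 12), (277, -3), (280, 1), (306, 5)]),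
    (49, (sv 77 [(49, 1), (50, -574002), (51, -6008), (53, 298657), (54, 97550), (55, -59856), (56, 195100), (61, -108848), (64, -195100), (69, -183802), (71, 97550)]), [(10, -724165), (30, 288140), (33, 84754), (34, -601601), (35, 109300), (54, 1569749), (76, 103104), (94, -77732), (98, 20370), (109, 605120), (112, -24208), (117, -52534), (119, -73974), (120, 54600), (126, 120775), (127, 108860), (130, -17553), (131, -17644), (136, 278343), (139, 166961), (140, -546565), (141, -11219), (142, -14402), (148, 44), (160, -253297), (163, 422444), (165, 39013), (172, -63177), (175, 91), (179, 6990), (193, 44), (198, -94), (200, -7139), (202, 97641), (206, 142937), (208, 133511), (210, -48775), (215, -83494), (218, 6052), (221, 97641), (233, -88), (234, 59679), (237, -65762), (241, -54424), (244, 88), (252, -1), (253, 89), (254, 182), (257, -97550), (263, 771724), (264, 454619), (277, -64601), (280, 48775), (290, 1149), (295, 53451), (306, 149081)]),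
    (50, (sv 77 [(50, 1), (51, 10463), (52, 1), (53, -520083), (54, -169874), (55, 104248), (56, -339747), (57, 1), (59, -1), (60, -1), (61, 1189114), (64, 339748), (69, -679494), (71, -169874)]), [(10, 1760747), (30, -501688), (33, -1147209), (34, 47804), (35, -690188), (54, 265234), (76, -679339), (94, 135419), (98, 1463680), (109, -54136), (112, 42160), (117, -907988), (119, 128782), (120, -95092), (126, -210350), (127, -189569), (130, 30639), (131, 30792), (136, 15080), (139, 208956), (140, 451898), (141, 19543), (142, 25082), (148, -77), (155, -499773), (160, -558390), (163, -735567), (165, -567611), (172, 110019), (175, -153), (179, -1011612), (193, -78), (198, 154), (200, 512154), (202, -170027), (206, -248982), (208, 767059), (210, 84937), (215, 145413), (218, -10540), (221, -170026), (223, 1), (233, 153), (234, -103939), (237, 114470), (241, 594557), (244, -154), (253, -155), (254, -306), (255, 1), (257, 169874), (263, -344379), (264, -791572), (277, -387293), (280, -84937),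 (290, -2001), (295, -93091), (306, -259676)]),
    (51, (sv 77 [(51, 1), (53, 5), (54, 2), (55, -3), (56, 4), (61, -14), (64, -4), (69, 8), (71, 2)]), [(10, -23), (30, 6), (33, 19), (34, -1), (35, 12), (54, -2), (76, 9), (94, 1), (98, -18), (109, 8), (117, 12), (119, -2), (126, 1), (127, 2), (130, 2), (131, 2), (139, -1), (140, -12), (155, 8), (160, 10), (163, 16), (165, 7), (172, -1), (179, 14), (193, -1), (194, -1), (198, 1), (200, -7), (202, 2), (206, 1), (208, -10), (210, -1), (221, 2), (233, -1), (234, 2), (237, -1), (241, -7), (244, 1), (257, -2), (263, 1), (264, 17), (277, 4), (280, 1), (306, 1)]),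
    (52, (sv 77 [(52, 2), (53, -20), (54, -8), (55, 4), (56, -14), (57, 2), (59, -2), (60, -2), (61, 50), (64, 16), (69, -30), (71, -8)]), [(10, 96), (30, -28), (33, -60), (34, 12), (35, -24), (54, 24), (76, -26), (94, 3), (98, 85), (109, 2), (117, -53), (119, 3), (126, -8), (127, -7), (130, 2), (131, 2), (139, 19), (140, 30), (155, -26), (160, -39), (163, -44), (165, -25), (172, 4), (179, -58), (194, 1), (198, 1), (200, 28), (202, -8), (206, -12), (208, 50), (210, 4), (215, 4), (221, -7), (223, 1), (230, -1), (234, -2), (235, -1), (237, 4), (241, 25), (244, -1), (257, 8), (263, -12), (264, -48), (277, -15), (280, -4), (306, -12)]),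
    (53, (sv 77 [(53, 2), (54, -4), (55, 1), (56, 4), (58, -2), (59, 2), (60, -2), (64, 4)]), [(10, 16), (30, -13), (33, -36), (34, 1), (35, -10), (54, -6), (71, -6), (76, -6), (94, -5), (98, 27), (109, -26), (117, -12), (119, -1), (126, 6), (127, 4), (130, -4), (131, -4), (136, -6), (139, -2), (140, 18), (155, -12), (160, -40), (163, -31), (165, -20), (172, -2), (179, -12), (181, -6), (198, 1), (200, 11), (202, 2), (206, 12), (208, 25), (210, 2), (215, -6), (221, 2), (226, -1), (230, 1), (234, 1), (235, -1), (257, 2), (264, -31), (306, 12)]),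
    (54, (sv 77 [(54, 2), (61, -2), (64, -2), (69, 2)]), [(10, -10), (30, 6), (33, 17), (34, 2), (35, 8), (54, 1), (71, 3), (76, 4), (94, 2), (98, -12), (109, 12), (117, 7), (119, 1), (120, 1), (126, -2), (127, -1), (130, 2), (131, 2), (136, 3), (139, -1), (140, -10), (155, 7), (160, 22), (163, 18), (165, 10), (172, 1), (179, 7), (181, 3), (200, -6), (202, -1), (206, -6), (208, -14), (210, -1), (215, 3), (237, 1), (241, -1), (257, -1), (263, -1), (264, 17), (267, -1), (277, 1), (306, -7)]),
    (55, (sv 77 [(55, 1)]), [(10, -7), (30, 3), (33, 1), (34, -8), (35, -5), (54, -4), (76, 1), (98, -10), (109, -1), (117, 5), (119, -1), (139, -4), (140, -1), (155, 1), (160, 6), (163, 3), (165, 4), (179, 5), (198, -1), (200, -3), (208, -6), (233, 1), (234, -1), (237, -1), (244, -1), (246, 1), (264, 3)])]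

/-- part of the data -/
def twoRows7 : List (Nat × List Int × List (Nat × Int)) :=
  [(56, (sv 77 [(56, 2), (57, 2), (58, 35497128324912), (59, -35497128324912), (60, 35497128324910), (61, 70994256649830), (64, -35497128324910), (67, -70994256649824), (68, -70994256649826), (69, -35497128324916), (71, 35497128324910), (73, -2)]), [(10, -10147920263114031366), (30, 4752068330164351461), (33, 2874636772752152982), (34, -23844504025421606648), (35, -7451423033123904995), (54, 4902289849036362709), (71, -53245692487365), (76, 2874015590774015167), (94, 784634023408273031), (98, -17650831082543195445), (109, 5707494110306952449), (112, -502063539262851952), (117, 5616037187185777791), (119, -4534900290626347381), (120, -3869130056867518), (126, -778954567806989105), (127, 234614605363987316), (130, 2157339780840344265), (131, 2155458461504398034), (136, -179630412198140685), (139, -2258025808022820383), (140, -2812535542939354885), (141, -232715537370854761), (142, -298739165537813068),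 (148, 922911010786300), (155, 610984774541596555), (160, 5090048941759510032), (163, 4238397403149520489), (165, 8413415682006060686), (172, -298774662666137978), (175, 1881319335946394), (179, 7099793979409887631), (181, -53245692487365), (193, -123670062980188124), (194, -124592973897950556), (198, -1492595432432012514), (200, -5001147785738060408), (202, 1934565028433759), (206, -319060960246287907), (208, -4166286098591552048), (215, -595632508495908685), (218, 125515884815712988), (221, 1881319428970100), (223, 93023869), (226, 17748564162456), (230, -17748471138588), (233, 1488815045288981466), (234, -128320114976397130), (235, 17748657186323), (237, -4239941512231565357), (241, 35497128324915), (244, -1488815045382005334), (246, 1615253841301528494), (252, -326), (253, 1845821835525191), (254, 3762638671892462), (255, 186047736), (257, -17748564162455), (263, 1953287709845050075), (264, 5030379215934349648), (266, -35497128324912), (267, 1136245329116270663), (271, -35497128324913),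 (277, 566188099529701570), (280, 17748564162455), (287, -1), (290, 23853697953193546), (295, 1108557998234534511), (306, 944617069963919641)]),
    (57, (sv 77 [(57, 4), (58, 70994256649828), (59, -70994256649828), (60, 70994256649824), (61, 141988513299662), (64, -70994256649822), (67, -141988513299650), (68, -141988513299654), (69, -70994256649836), (71, 70994256649822), (73, -4)]), [(10, -20295840526228348627), (30, 9504136660328836802), (33, 5749273545504386950), (34, -47689008050843885053), (35, -14902846066248019926), (54, 9804579698072863517), (71, -106491384974733), (76, 5748031181548111300), (94, 1569268046816568166), (98, -35301662165086888166), (109, 11414988220614065681), (112, -1004127078525718048), (117, 11232074374371713803), (119, -9069800581252822521), (120, -7738260113735148), (126, -1557909135614000155), (127, 469229210727981240), (130, 4314679561680749304), (131, 4310916923008856789), (136, -359260824396286432), (139, -4516051616045704381), (140, -5625071085878789000),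 (141, -465431074741716078), (142, -597478331075634552), (148, 1845822021572626), (155, 1221969549083210321), (160, 10180097883519163457), (163, 8476794806299160374), (165, 16826831364012358396), (172, -597549325332284374), (175, 3762638671892841), (179, 14199587958819975283), (181, -106491384974733), (193, -247340125960379732), (194, -249185947795904622), (198, -2985190864864067080), (200, -10002295571476261710), (202, 3869130056867574), (206, -638121920492584798), (208, -8332572197183221472), (215, -1191265016991834152), (218, 251031769631429512), (221, 3762638857940251), (223, 186047738), (226, 35497128324914), (230, -35496942277178), (233, 2977630090578004876), (234, -256640229952797878), (235, 35497314372648), (237, -8479883024463250165), (241, 70994256649831), (244, -2977630090764052612), (246, 3230507682603102494), (252, -652), (253, 3691643671050434), (254, 7525277343785030), (255, 372095472), (257, -35497128324911), (263, 3906575419690155182), (264, 10060758431868841007),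 (266, -70994256649825), (267, 2272490658232573339), (271, -70994256649827), (277, 1132376199059419089), (280, 35497128324911), (287, -2), (290, 47707395906387764), (295, 2217115996469100252), (306, 1889234139927865901)]),
    (58, (sv 77 [(58, 2), (59, -2), (60, 2), (61, -2), (63, -2), (64, -2), (68, -2), (71, 2)]), [(10, 2863), (30, -1342), (33, -823), (34, 6735), (35, 2102), (54, -1372), (71, -3), (76, -823), (94, -219), (98, 4986), (109, -1626), (112, 144), (117, -1585), (119, 1280), (120, -6), (126, 221), (127, -65), (130, -608), (131, -608), (136, 48), (139, 633), (140, 790), (141, 66), (142, 84), (155, -178), (160, -1471), (163, -1214), (165, -2391), (172, 82), (179, -2001), (181, -3), (193, 36), (194, 36), (198, 424), (200, 1415), (202, 3), (206, 99), (208, 1197), (215, 164), (218, -36), (226, 1), (230, -1), (233, -425), (234, 34), (235, 1), (237, 1195), (241, -1), (244, 425), (246, -461), (256, -1), (257, -1), (263, -550), (264, -1429), (267, -318), (271, -1), (277, -162),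 (280, 1), (290, -6), (295, -318), (306, -255)]),
    (61, (sv 77 [(61, 2), (76, -2)]), [(10, 2), (30, -2), (33, -4), (34, -3), (35, -1), (54, 2), (76, -1), (98, 3), (109, 2), (117, -2), (139, 2), (155, -1), (160, -2), (165, -2), (179, -2), (200, 1), (208, 2), (241, 1), (305, -1), (306, 1)]),
    (63, (sv 77 [(63, 2), (65, -2)]), [(10, 5), (30, -3), (33, 2), (34, 16), (35, 3), (54, -11), (94, -2), (98, 8), (109, -4), (117, -3), (119, 3), (126, 1), (130, -3), (131, -3), (139, 2), (140, 4), (160, -4), (163, -3), (165, -4), (179, -4), (200, 3), (206, 3), (215, -1), (237, 3), (256, 1), (259, -1), (263, 3), (264, -3), (306, 3)]),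
    (64, (sv 77 [(64, 2), (65, -39350872440), (67, 78701744882), (68, 39350872440), (69, 39350872440), (72, -2), (76, -118052617322)]), [(10, 11306175966904970), (30, -5294557925821602), (33, -3203111221125117), (34, 26565833307393282), (35, 8301744201478931), (54, -5461599798373690), (76, -3202284872500301), (94, -874166051744255), (98, 19665528960636780), (109, -6359080856256570), (112, 559403307298528), (117, -6257104653365341), (119, 5052475118322301), (120, 4171129367526), (126, 867889681741133), (127, -261364432639060), (130, -2403572967191305), (131, -2401487402507542), (136, 200076400636550), (139, 2515780231404989), (140, 3133500632120011), (141, 259278867852174), (142, 332824506048940), (148, -1023106802540), (155, -680877562653011), (160, -5671789193793845), (163, -4722483829611923), (165, -9374058493800084), (172, 332824506048940), (175, -2085564683763), (179, -7910150090904877), (193, 137804613425798), (194, 138827720125215), (198, 1662981372371683), (200, 5572055961654173),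 (202, -2085564683763), (206, 355706693324128), (208, 4642268308459634), (215, 663504420692967), (218, -139850826824632), (221, -2085564786886), (223, -103123), (230, -103123), (233, -1658810243107280), (234, 142920147232252), (235, -103123), (237, 4723821741537764), (244, 1658810243210403), (246, -1799684176940698), (253, -2046213398834), (254, -4171129367526), (255, -206246), (257, 1), (259, -19675436220), (263, -2176108764505758), (264, -5604677330533657), (266, 39350872441), (267, -1265858540118148), (271, 19675436220), (277, -630843705375311), (283, -1), (290, -26561426199838), (295, -1235165335423224), (305, -59026308661), (306, -1052068562659949)]),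
    (65, (sv 77 [(65, 2), (67, -4), (68, -2), (69, -2), (76, 6)]), [(10, -574643), (30, 269099), (33, 162800), (34, -1350224), (35, -421941), (54, 277589), (76, 162758), (94, 44430), (98, -999512), (109, 323204), (112, -28432), (117, 318021), (119, -256795), (120, -212), (126, -44111), (127, 13284), (130, 122163), (131, 122057), (136, -10169), (139, -127866), (140, -159262), (141, -13178), (142, -16916), (148, 52), (155, 34606), (160, 288272), (163, 240023), (165, 476442), (172, -16916), (175, 106), (179, 402038), (193, -7004), (194, -7056), (198, -84522), (200, -283203), (202, 106), (206, -18079), (208, -235946), (215, -33723), (218, 7108), (221, 106), (233, 84310), (234, -7264), (237, -240091), (244, -84310), (246, 91470), (253, 104), (254, 212), (259, 1), (263, 110602), (264, 284861), (266, -2), (267, 64338), (271, -1), (277, 32063), (290, 1350), (295, 62778), (305, 3), (306, 53472)]),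
    (66, (sv 77 [(66, 2)]), [(262, 1)])]

/-- part of the data -/
def twoRows8 : List (Nat × List Int × List (Nat × Int)) :=
  [(67, (sv 77 [(67, 2), (68, 2), (69, 1), (70, -1), (72, 1), (76, -4)]), [(10, -50396409896223), (30, 23598263290026), (33, 14280601987451), (34, -118409907644330), (35, -37004626599136), (54, 24338442762331), (76, 14274953340395), (94, 3894400445132), (98, -87654841042565), (109, 28343479760898), (112, -2493684422864), (117, 27889488426056), (119, -22520022774286), (120, -18099321654), (126, -3867399333242), (127, 1164951649577), (130, 10710776797901), (131, 10701727137022), (136, -891983110626), (139, -11212234498511), (140, -13963893409533), (141, -1155931562784), (142, -1483552957634), (148, 4554404685), (155, 3035096670598), (160, 25281884740555), (163, 21049511975023), (165, 41781635179162), (172, -1483552957634), (175, 9049660827), (179, 35256237964589), (193, -614253148175), (194, -618837126946), (198, -7412766772199), (200, -24836203711541), (202,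 9049660827), (206, -1582507745418), (208, -20696102009431), (215, -2958174550947), (218, 623421105716), (221, 9020086793), (223, -29574086), (230, -29574086), (233, 7394637876355), (234, -637084319667), (235, -29574086), (237, -21054598712496), (244, -7394608302268), (246, 8022554238584), (252, 104), (253, 9167957437), (254, 18099321758), (255, -59148172), (263, 9702597228621), (264, 24980850418264), (266, 1), (267, 5642611635324), (271, 1), (277, 2812256156836), (283, 1), (290, 118355373101), (295, 5506156940569), (304, 1), (305, -2), (306, 4692633804518)]),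
    (68, (sv 77 [(68, 2), (69, 4), (75, 2), (76, -6)]), [(10, -2893), (30, 1351), (33, 816), (34, -6821), (35, -2128), (54, 1405), (76, 822), (94, 225), (98, -5034), (109, 1645), (112, -144), (117, 1600), (119, -1294), (126, -224), (127, 66), (130, 616), (131, 616), (136, -51), (139, -632), (140, -805), (141, -66), (142, -84), (155, 174), (160, 1459), (163, 1221), (165, 2399), (172, -84), (179, 2022), (193, -36), (194, -36), (198, -426), (200, -1426), (206, -92), (208, -1194), (215, -168), (218, 36), (233, 426), (234, -36), (237, -1210), (244, -426), (246, 462), (263, 556), (264, 1444), (267, 325), (271, 1), (277, 164), (290, 6), (295, 318), (298, 1), (305, -3), (306, 271)]),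
    (69, (sv 77 [(69, 3), (70, 1), (72, -1), (74, -2), (75, 2), (76, -2)]), [(10, 37762973112875), (30, -17682620328865), (33, -10700722333140), (34, 88726759860124), (35, 27728259258810), (54, -18237250660109), (76, -10696489696202), (94, -2918147137939), (98, 65681412868926), (109, -21238299838039), (112, 1868564407792), (117, -20898115634305), (119, 16874674530961), (120, 13562160452), (126, 2897914699462), (127, -872920073305), (130, -8025785508758), (131, -8019004428493), (136, 668379638412), (139, 8401537148682), (140, 10463406668495), (141, 866161153456), (142, 1111653996112), (148, -3412700668), (155, -2274254737635), (160, -18944189390962), (163, -15772793268166), (165, -31307761190391), (172, 1111653996112), (175, -6781080226), (179, -26418158933554), (193, 460271379782), (194, 463706240866), (198, 5554524873636), (200, 18610232254968), (202, -6781080226), (206, 1185802670568), (208, 15507976566786), (215, 2216615553782), (218, -467141101948), (221, -6758919849), (223, 22160416),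 (230, 22160416), (233, -5540940552690), (234, 477379203870), (235, 22160416), (237, 15776604855797), (244, 5540918392274), (246, -6011450034472), (252, -78), (253, -6869722088), (254, -13562160530), (255, 44320832), (263, -7270337689206), (264, -18718618739389), (267, -4228114500816), (277, -2107276170182), (283, -1), (290, -88685896108), (292, -1), (295, -4125866444258), (298, 1), (304, -1), (305, -1), (306, -3516278333175)])]

/-- the rules at 2 -/
def twoData : SchurData where
  p := 2
  a := List.replicate 10 (0, 0)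
  derived := []
  levels := []
  pow := [[], [], [], [0], [], [0], [], [], [7], [0]]
  comm := [[], [[0, 1]], [[0, 2], [1, 2]], [[0, 3], [1, 3], [2, 3]], [[0, 4], [1, 4], [2, 4], [0, 3, 4]], [[0, 5], [1, 5], [0, 2, 5], [0, 3, 5], [4, 5]], [[0, 6], [0, 1, 6], [0, 2, 6], [0, 3, 6], [0, 4, 6], [0, 5, 6]], [[0, 7], [1, 7], [2, 7], [1, 3, 7], [4, 7], [5, 7], [0, 1, 4, 6, 7]], [[0, 8], [1, 8], [1, 2, 8], [0, 2, 3, 8], [4, 8], [0, 4, 5, 8], [0, 1, 2, 4, 5, 6, 8], [7, 8]], [[0, 9], [1, 9], [1, 2, 9], [1, 3, 9], [0, 4, 9], [1, 5, 9], [0, 2, 5, 6, 9], [1, 7, 9], [0, 2, 7, 8, 9]]]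
  ords := [2, 2, 2, 4, 2, 4, 2, 2, 4, 4]
  fus := [⟨(0, 0), [[0], [1], [2], [3], [4], [5], [6], [7, 9]], [[0], [0, 1, 2, 4], [3, 4, 6], [0, 1, 2, 5, 6], [0, 5, 6], [2, 3, 4, 5], [1, 4, 6], [0, 2, 4, 5, 7, 8, 9]]⟩,
    ⟨(0, 0), [[0], [1], [2], [4], [7], [3, 8, 9]], [[0, 3, 4, 8, 9], [1, 2, 7], [2, 3, 4, 8, 9], [4], [1, 3, 4, 7, 8, 9], [0, 4]]⟩,
    ⟨(0, 0), [[0], [1], [2], [4], [5], [6], [7], [3, 8, 9]], [[1, 4], [0, 2, 3, 4, 7, 8, 9], [0, 4, 7], [2, 3, 4, 7, 8, 9], [0, 1, 2, 3, 5, 6, 8, 9], [1, 3, 4, 6, 8, 9], [0, 1, 3, 7, 8, 9], [1, 3, 4, 8, 9]]⟩]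
  nv := 77
  rels := ([twoRels0, twoRels1, twoRels2, twoRels3, twoRels4, twoRels5, twoRels6, twoRels7, twoRels8, twoRels9, twoRels10] : List (List (Rel))).flatten
  rows := ([twoRows0, twoRows1, twoRows2, twoRows3, twoRows4, twoRows5, twoRows6, twoRows7, twoRows8] : List (List (Nat × List Int × List (Nat × Int)))).flatten
  gs := [([0], (sv 77 [(52, 1), (56, 1), (57, 1), (59, -1), (60, -1), (69, 2), (74, -2), (75, 2), (76, -2)])), ([1], (sv 77 [(53, 1)])), ([2], (sv 77 [(53, 1), (56, 1), (69, 1), (76, -2)])), ([4], (sv 77 [(52, 1), (53, 1), (56, 1), (57, 1), (59, -1), (60, -1), (69, 1), (76, -2)])), ([5], (sv 77 [(53, 1), (57, 1), (59, 1), (60, -1), (69, 1), (70, 2), (71, -2), (73, -2), (74, -2), (75, 2), (76, 2)])), ([7], (sv 77 [(52, 1), (53, 1), (54, 1), (57, 1), (59, -1), (60, -1), (69, 1), (76, -2)]))]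
  elts := []
  commWit := [[], [[]], [[], []], [[], [], []], [[], [], [], [0]], [[], [], [0], [0], []], [[], [0], [0], [0], [0], [0]], [[], [], [], [1], [], [], [0, 1, 3]], [[], [], [1], [0, 2], [], [0, 3], [1, 3, 4, 2], []], [[], [], [1], [1], [0], [1], [4, 2], [1], [0, 2, 5]]]
  conjWit := [[[0], [1], [2], [3], [4], [5]], [[0], [1], [2], [3], [4], [5]], [[0], [1], [2], [3], [0, 4], [5]], [[0], [1], [2], [0, 3], [0, 4], [1, 5]], [[0], [1], [2], [3], [4], [5]], [[0], [1], [0, 2], [3], [4], [5]], [[0], [0, 1], [0, 2], [0, 3], [0, 4], [0, 1, 3, 5]], [[0], [1], [2], [3], [4], [5]], [[0], [1], [1, 2], [3], [0, 3, 4], [5]], [[0], [1], [1, 2], [0, 3], [1, 4], [1, 5]]]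
  ext := []

/-- power witnesses at 2 -/
def twoChainP : List (List Nat) :=
  [[], [], [], [], [0], []]

/-- conjugation witnesses at 2 -/
def twoChainC : List (List (List Nat)) :=
  [[], [[0]], [[0], [1]], [[0], [1], [2]], [[0], [1], [0, 2], [3]], [[0], [1], [2], [3], [4]]]

end Cfsg.Agent.RigidGraph.He.Mult
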