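import Cfsg.Agent.Lib.RigidGraph.He.Group
import Cfsg.Agent.Lib.RigidGraph.He.MultLetters
import Cfsg.Agent.Lib.Schur.Tails
import Cfsg.Agent.Lib.Schur.SeqCard

/-! Words in eight letters of the group on 2058 points, compared on the base. -/

set_option autoImplicit false
set_option maxRecDepth 100000

namespace Cfsg.Agent.RigidGraph.He.Mult

open Cfsg.Agent.PermSchur (SchurData rowsOK val val_cons val_append)
open Cfsg.Agent.PermCert (allBelow allBelow_spec)

/-- the base -/
def base : List ℕ := [0, 37, 219, 44, 321, 221, 24]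

theorem letters_ok : (alpha.map (fun s => (getN nodes s).1) == lets) = true := by decide +kernel

theorem nodes_length : Nat.blt 197 nodes.length = true := by decide +kernel

theorem alpha_lt (i : ℕ) : alpha.getD i 0 / 2 < nodes.length := by
  have h := nodes_length
  rw [Nat.blt_eq] at h
  have : alpha.getD i 0 ≤ 394 := by
    match i with
    | 0 | 1 | 2 | 3 | 4 | 5 | 6 | 7 => simp [alpha]
    | n + 8 => simp [alpha]
  omega

attribute [local irreducible] nodes lets

/-- a letter -/
noncomputable def gen (i : ℕ) : ↥heGroup :=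
  ⟨permOf 2058 (getN nodes (alpha.getD i 0)), getN_mem slp_ok (alpha_lt i)⟩

/-- the value of a word of letters -/
noncomputable def wordVal (w : List ℕ) : ↥heGroup := (w.map gen).prod

/-- the action of a word -/
def evW (w : List ℕ) (x : ℕ) : ℕ := w.foldr (fun i y => slot (lets.getD i 0) y) x

/-- the images of the base -/
def keyOf (w : List ℕ) : List ℕ := base.map (evW w)

theorem lets_eq {i : ℕ} (hi : i < 8) : lets.getD i 0 = (getN nodes (alpha.getD i 0)).1 := by
  have h := (beq_iff_eq.1 letters_ok).symm
  rw [h, List.getD_eq_getElem _ _ (by simp [alpha]; omega), List.getElem_map, List.getD_eq_getElem]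

theorem act_word : ∀ w : List ℕ, (∀ i ∈ w, i < 8) → ∀ x : Fin 2058,
    (((wordVal w : ↥heGroup) : Equiv.Perm (Fin 2058)) x : ℕ) = evW w x := by
  intro w
  induction w with
  | nil => intro _ x; simp [wordVal, evW]
  | cons i w ih =>
    intro hw x
    have ih' := ih (fun j hj => hw j (List.mem_cons_of_mem _ hj)) x
    simp only [wordVal, evW] at ih' ⊢
    rw [List.map_cons, List.prod_cons, Subgroup.coe_mul, Equiv.Perm.mul_apply, List.foldr_cons, gen,
      permOf_val (getN_ok slp_ok (alpha_lt i)), ih', lets_eq (hw i List.mem_cons_self)]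

theorem eq_of_key {w w' : List ℕ} (hw : ∀ i ∈ w, i < 8) (hw' : ∀ i ∈ w', i < 8) (h : keyOf w = keyOf w') :
    wordVal w = wordVal w' := by
  rw [← inv_mul_eq_one]
  have hle : (heGroup : Subgroup (Equiv.Perm (Fin 2058))) ≤ autG 2058 graph :=
    grp_le_autG graph_ok slp_ok gens_aut
  refine Subtype.ext ?_
  have hbot : ((((wordVal w)⁻¹ * wordVal w' : ↥heGroup)) : Equiv.Perm (Fin 2058)) ∈
      autG 2058 graph ⊓ fixList 2058 [0, 37, 219, 44, 321, 221, 24] := by
    refine ⟨hle ((wordVal w)⁻¹ * wordVal w').2, mem_fixList.2 fun x hx => ?_⟩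
    rw [Subgroup.coe_mul, Equiv.Perm.mul_apply, Subgroup.coe_inv, Equiv.Perm.inv_eq_iff_eq]
    refine Fin.ext ?_
    rw [act_word _ hw, act_word _ hw']
    exact ((List.map_inj_left.1 h) (x : ℕ) hx).symm
  rw [aut_fix_bot, Subgroup.mem_bot] at hbot
  exact hbot

theorem key_of_eq {w w' : List ℕ} (hw : ∀ i ∈ w, i < 8) (hw' : ∀ i ∈ w', i < 8)
    (h : wordVal w = wordVal w') : keyOf w = keyOf w' := by
  refine List.map_congr_left fun b hb => ?_
  have hb' : b < 2058 := by
    simp only [base, List.mem_cons, List.not_mem_nil, or_false] at hb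
    omega
  have e := act_word _ hw ⟨b, hb'⟩
  rw [h, act_word _ hw' ⟨b, hb'⟩] at e
  exact e.symm

/-- an element of a list of words -/
noncomputable def el (W : List (List ℕ)) (i : ℕ) : ↥heGroup := wordVal (W.getD i [])

/-- a product of listed elements as a word -/
def flat (W : List (List ℕ)) (u : List ℕ) : List ℕ := u.flatMap fun q => W.getD q []

/-- all letters are letters -/
def okW (W : List (List ℕ)) : Bool := W.all fun w => w.all fun i => Nat.blt i 8

theorem wordVal_append (w w' : List ℕ) : wordVal (w ++ w') = wordVal w * wordVal w' := by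
  simp [wordVal]

theorem val_el (W : List (List ℕ)) : ∀ u : List ℕ, val (el W) u = wordVal (flat W u) := by
  intro u
  induction u with
  | nil => simp [val, flat, wordVal]
  | cons q u ih => rw [val_cons, ih, el, ← wordVal_append]; simp [flat]

theorem okW_mem {W : List (List ℕ)} (h : okW W = true) (q : ℕ) : ∀ i ∈ W.getD q [], i < 8 := by
  intro i hi
  rcases lt_or_ge q W.length with hq | hq
  · rw [List.getD_eq_getElem _ _ hq] at hi
    simp only [okW, List.all_eq_true, Nat.blt_eq] at h
    exact h _ (List.getElem_mem hq) i hi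
  · rw [List.getD_eq_default _ _ hq] at hi
    simp at hi

theorem flat_lt {W : List (List ℕ)} (h : okW W = true) (u : List ℕ) : ∀ i ∈ flat W u, i < 8 := by
  intro i hi
  obtain ⟨q, -, hq⟩ := List.mem_flatMap.1 hi
  exact okW_mem h q i hq

/-- equal images of the base -/
def keyEq (w w' : List ℕ) : Bool := keyOf w == keyOf w'

theorem keyEq_val {W : List (List ℕ)} (h : okW W = true) {u v : List ℕ}
    (e : keyEq (flat W u) (flat W v) = true) : val (el W) u = val (el W) v := by
  rw [val_el, val_el]
  exact eq_of_key (flat_lt h u) (flat_lt h v) (beq_iff_eq.1 e)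

/-- the equations of the rules -/
def factsOK (d : SchurData) (W FW : List (List ℕ)) : Bool :=
  okW W && okW FW &&
  allBelow (fun i => keyEq (flat W (List.replicate d.p i)) (flat W (d.pow.getD i [])) &&
    allBelow (fun j => keyEq (flat W [i, j]) (flat W ((d.comm.getD i []).getD j []))) i) d.a.length &&
  allBelow (fun t => allBelow (fun i =>
      keyEq (FW.getD t [] ++ flat W ((d.fus.getD t ⟨(0, 0), [], []⟩).src.getD i []))
        (flat W ((d.fus.getD t ⟨(0, 0), [], []⟩).img.getD i []) ++ FW.getD t []))
    (d.fus.getD t ⟨(0, 0), [], []⟩).src.length) d.fus.length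

variable {d : SchurData} {W FW : List (List ℕ)}

theorem facts (h : factsOK d W FW = true) : Tails.Facts d (el W) (el FW) := by
  simp only [factsOK, Bool.and_eq_true] at h
  obtain ⟨⟨⟨hW, hF⟩, h1⟩, h2⟩ := h
  refine ⟨fun i hi => ?_, fun i hi j hj => ?_, fun t ht i hi => ?_⟩
  · have h' := allBelow_spec _ _ h1 i hi
    simp only [Bool.and_eq_true] at h'
    rw [← SeqCard.val_replicate]
    exact keyEq_val hW h'.1
  · have h' := allBelow_spec _ _ h1 i hi
    simp only [Bool.and_eq_true] at h'
    rw [show el W i * el W j = val (el W) [i, j] by simp [val]]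
    exact keyEq_val hW (allBelow_spec _ _ h'.2 j hj)
  · have h' := allBelow_spec _ _ (allBelow_spec _ _ h2 t ht) i hi
    rw [mul_inv_eq_iff_eq_mul, val_el, val_el, el, ← wordVal_append, ← wordVal_append]
    refine eq_of_key ?_ ?_ (beq_iff_eq.1 h') <;>
    · intro a ha
      rcases List.mem_append.1 ha with ha | ha
      · first | exact flat_lt hW _ a ha | exact okW_mem hF _ a ha
      · first | exact flat_lt hW _ a ha | exact okW_mem hF _ a ha

/-- each listed generator of the derived group differs from the forms of the earlier ones -/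
def chainNeOK (d : SchurData) (W : List (List ℕ)) : Bool :=
  allBelow (fun i => (Tails.formsOf d i).all fun f => !keyEq (flat W (d.gs.getD i ([], [])).1) (flat W f))
    d.gs.length

theorem chain_ne (hW : okW W = true) (h : chainNeOK d W = true) :
    ∀ i < d.gs.length, ∀ f ∈ Tails.formsOf d i, val (el W) (d.gs.getD i ([], [])).1 ≠ val (el W) f := by
  intro i hi f hf e
  have h' := allBelow_spec _ _ h i hi
  simp only [List.all_eq_true, Bool.not_eq_true', keyEq, beq_eq_false_iff_ne] at h'
  rw [val_el, val_el] at e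
  exact h' f hf (key_of_eq (flat_lt hW _) (flat_lt hW _) e)

/-- the images of the base under the normal words -/
def lkeys (p : ℕ) (W : List (List ℕ)) : ℕ → List (List ℕ)
  | 0 => [base]
  | i + 1 => (lkeys p W i).flatMap fun k =>
      (List.range p).map fun e => k.map (evW (flat W (List.replicate e i)))

theorem lkeys_eq (p : ℕ) (W : List (List ℕ)) : ∀ i,
    lkeys p W i = (SeqCard.lforms p i).map fun f => keyOf (flat W f) := by
  intro i
  induction i with
  | zero =>
    have : evW [] = id := funext fun _ => rfl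
    simp [lkeys, SeqCard.lforms, keyOf, flat, this]
  | succ i ih =>
    simp only [lkeys, SeqCard.lforms, ih, List.flatMap_map, List.map_flatMap, List.map_map]
    refine List.flatMap_congr fun f _ => ?_
    refine List.map_congr_left fun e _ => ?_
    simp only [Function.comp_apply, keyOf, List.map_map, flat, List.flatMap_append]
    refine List.map_congr_left fun b _ => ?_
    simp [evW, List.foldr_append]

/-- the sequence is polycyclic and each term is new -/
def seqOK (d : SchurData) (W : List (List ℕ)) : Bool :=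
  allBelow (fun i => (d.pow.getD i []).all (fun q => Nat.blt q i) &&
    allBelow (fun j => ((d.comm.getD i []).getD j []) == ((d.comm.getD i []).getD j []).dropLast ++ [i] &&
      ((d.comm.getD i []).getD j []).dropLast.all (fun q => Nat.blt q i)) i &&
    !(lkeys d.p W i).contains (keyOf (W.getD i []))) d.a.length

theorem card_seq (hp : d.p.Prime) (hf : factsOK d W FW = true) (hs : seqOK d W = true) :
    Nat.card (Subgroup.closure {x | ∃ q < d.a.length, x = el W q}) = d.p ^ d.a.length := by
  have hW : okW W = true := by simp only [factsOK, Bool.and_eq_true] at hf; exact hf.1.1.1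
  have H : ∀ i < d.a.length, (∀ q ∈ d.pow.getD i [], q < i) ∧ (∀ j < i, ∃ u : List ℕ, (∀ q ∈ u, q < i) ∧
      (d.comm.getD i []).getD j [] = u ++ [i]) ∧ keyOf (W.getD i []) ∉ lkeys d.p W i := fun i hi => by
    have h := allBelow_spec _ _ hs i hi
    simp only [Bool.and_eq_true, List.all_eq_true, Nat.blt_eq, Bool.not_eq_true'] at h
    refine ⟨h.1.1, fun j hj => ?_, fun hm => ?_⟩
    · have h' := allBelow_spec _ _ h.1.2 j hj
      simp only [Bool.and_eq_true, List.all_eq_true, Nat.blt_eq, beq_iff_eq] at h'
      exact ⟨_, h'.2, h'.1⟩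
    · rw [List.contains_iff_mem.2 hm] at h
      simp at h
  have hF := facts hf
  refine (SeqCard.closure_seq hp (el W) (fun i hi => ⟨_, (H i hi).1, hF.pow i hi⟩)
    (fun i hi j hj => ?_) (fun i hi f hf' e => ?_)).1
  · obtain ⟨u, hu, e⟩ := (H i hi).2.1 j hj
    exact ⟨u, hu, e ▸ hF.comm i hi j hj⟩
  · refine (H i hi).2.2 ?_
    rw [val_el, el] at e
    rw [lkeys_eq, key_of_eq (okW_mem hW i) (flat_lt hW f) e]
    exact List.mem_map_of_mem hf'

/-- one prime -/
theorem kill {X : Type*} [Group X] (ξ : X →* ↥heGroup) (hs : Function.Surjective ξ)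
    (hc : ξ.ker ≤ Subgroup.center X) (hwf : Tails.wfOK d = true) (hf : factsOK d W FW = true)
    (hr : rowsOK d = true)
    (hrel : d.rels.all (fun r => match r with
      | .assoc a b c => (a ++ b ++ c).all (fun q => Nat.blt q d.a.length) | .fuse .. => true) = true)
    (hd : Tails.derivedOK d = true) (hcl : Tails.Chain d) (hne : chainNeOK d W = true)
    (hseq : seqOK d W = true) {p : ℕ} (hp : p.Prime) (hdp : d.p = p)
    (hdiv : ¬ p ∣ 4030387200 / p ^ d.a.length) :
    ∃ U : Subgroup ↥heGroup, ¬ p ∣ U.index ∧ ∀ w : U.comap ξ,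
      w ∈ commutator (U.comap ξ) → ξ w = 1 → (w : X) ^ p = 1 → (w : X) = 1 := by
  subst hdp
  have hW : okW W = true := by simp only [factsOK, Bool.and_eq_true] at hf; exact hf.1.1.1
  set U := Subgroup.closure {x | ∃ q < d.a.length, x = el W q} with hU
  refine ⟨U, ?_, fun w hw hw1 _ => ?_⟩
  · have h := U.card_mul_index
    rw [card_seq hp hf hseq, card_heGroup] at h
    rwa [← h, Nat.mul_div_cancel_left _ (pow_pos hp.pos _)] at hdiv
  · exact Tails.kill hwf (facts hf) hr hrel hd hcl hp (chain_ne hW hne) ξ hc
      (fun q _ => MonoidHom.mem_range.2 (hs _)) (fun t _ => MonoidHom.mem_range.2 (hs _))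
      (U := U) le_rfl w hw hw1

end Cfsg.Agent.RigidGraph.He.Mult
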