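import Cfsg.Agent.Lib.RigidGraph.He.MultChecks
import Cfsg.Agent.Lib.Schur.SylowKill

/-! The Schur multiplier of the group on 2058 points is trivial. -/

set_option autoImplicit false
set_option maxRecDepth 100000

namespace Cfsg.Agent.RigidGraph.He.Mult

open Cfsg.Agent.PermSchur (rowsOK)

/-- Central extensions of the group do not split off a part of the derived group. -/
theorem inf_commutator {X : Type*} [Group X] (ξ : X →* ↥heGroup) (hs : Function.Surjective ξ)
    (hc : ξ.ker ≤ Subgroup.center X) : ξ.ker ⊓ commutator X = ⊥ := by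
  refine SylowKill.inf_commutator_eq_bot ξ hc hs fun p hp => ?_
  by_cases h2 : p = 2
  · subst h2
    exact kill ξ hs hc two_wf two_facts two_rows two_rels two_derived two_chain two_ne two_seq hp rfl
      (by decide +kernel)
  by_cases h3 : p = 3
  · subst h3
    exact kill ξ hs hc three_wf three_facts three_rows three_rels three_derived three_chain three_ne three_seq hp rfl
      (by decide +kernel)
  by_cases h5 : p = 5
  · subst h5
    exact kill ξ hs hc five_wf five_facts five_rows five_rels five_derived five_chain five_ne five_seq hp rfl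
      (by decide +kernel)
  by_cases h7 : p = 7
  · subst h7
    exact kill ξ hs hc seven_wf seven_facts seven_rows seven_rels seven_derived seven_chain seven_ne seven_seq hp rfl
      (by decide +kernel)
  by_cases h17 : p = 17
  · subst h17
    exact kill ξ hs hc seventeen_wf seventeen_facts seventeen_rows seventeen_rels seventeen_derived seventeen_chain
      seventeen_ne seventeen_seq hp rfl (by decide +kernel)
  have hd : ¬ p ∣ 4030387200 := by
    intro h
    rw [show (4030387200 : ℕ) = 2 ^ 10 * (3 ^ 3 * (5 ^ 2 * (7 ^ 3 * 17))) by norm_num] at h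
    rcases hp.dvd_mul.1 h with h | h
    · exact h2 ((Nat.prime_dvd_prime_iff_eq hp (by norm_num)).1 (hp.dvd_of_dvd_pow h))
    rcases hp.dvd_mul.1 h with h | h
    · exact h3 ((Nat.prime_dvd_prime_iff_eq hp (by norm_num)).1 (hp.dvd_of_dvd_pow h))
    rcases hp.dvd_mul.1 h with h | h
    · exact h5 ((Nat.prime_dvd_prime_iff_eq hp (by norm_num)).1 (hp.dvd_of_dvd_pow h))
    rcases hp.dvd_mul.1 h with h | h
    · exact h7 ((Nat.prime_dvd_prime_iff_eq hp (by norm_num)).1 (hp.dvd_of_dvd_pow h))
    · exact h17 ((Nat.prime_dvd_prime_iff_eq hp (by norm_num)).1 h)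
  refine ⟨⊤, by simpa using hp.one_lt.ne', fun w hw hw1 hwp => ?_⟩
  obtain ⟨hm, hmem⟩ := SylowKill.transfer_step ξ hs (⊥ : Subgroup ↥heGroup) (z := (w : X))
    (hc (MonoidHom.mem_ker.2 hw1)) hw1 (by
      have := Subgroup.mem_map_of_mem (Subgroup.subtype _) hw
      rw [Subgroup.map_subtype_commutator] at this
      exact Subgroup.commutator_mono le_top le_top this)
  rw [SylowKill.commutator_cyclic ξ hc (⊥ : Subgroup ↥heGroup), Subgroup.mem_bot] at hmem
  have h2 : (w : X) ^ 4030387200 = 1 := by
    have := congrArg Subtype.val hmem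
    simp only [Subgroup.coe_one] at this
    rwa [Subgroup.index_bot, card_heGroup] at this
  have h3 := pow_gcd_eq_one.2 ⟨h2, hwp⟩
  rwa [Nat.Coprime.gcd_eq_one (Nat.coprime_comm.1 ((Nat.Prime.coprime_iff_not_dvd hp).2 hd)), pow_one] at h3

end Cfsg.Agent.RigidGraph.He.Mult
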