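import Cfsg.Agent.Lib.RigidGraph.He.Cert
import Cfsg.Agent.Lib.RigidGraph.He.SpData
import Cfsg.Agent.Lib.RigidGraph.He.FieldFour
import Cfsg.Prelude.Def_ClassicalGeometry
import Mathlib.LinearAlgebra.SymplecticGroup

/-! Checks for the symplectic model on the suborbit of size 425. -/

set_option autoImplicit false
set_option maxRecDepth 100000

namespace Cfsg.Agent.RigidGraph.He

open Matrix

/-- Coordinates of vectors. -/
abbrev Ix : Type := Fin 2 ⊕ Fin 2

/-- The vector with a given code. -/
def vec (x : ℕ) : Ix → K4 :=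
  Sum.elim ![K4.ofDigit (x % 4), K4.ofDigit (x / 4 % 4)] ![K4.ofDigit (x / 16 % 4), K4.ofDigit (x / 64 % 4)]

/-- The matrix with coded rows. -/
def mat (r : List ℕ) : Matrix Ix Ix K4 :=
  Matrix.of (Sum.elim ![vec (r.getD 0 0), vec (r.getD 1 0)] ![vec (r.getD 2 0), vec (r.getD 3 0)])

/-- The product of a matrix and a vector, written out. -/
def mv (M : Matrix Ix Ix K4) (v : Ix → K4) (i : Ix) : K4 :=
  M i (.inl 0) * v (.inl 0) + M i (.inl 1) * v (.inl 1) + (M i (.inr 0) * v (.inr 0) + M i (.inr 1) * v (.inr 1))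

/-- Equality of vectors. -/
def eqV (u v : Ix → K4) : Bool :=
  decide (u (.inl 0) = v (.inl 0)) && decide (u (.inl 1) = v (.inl 1)) &&
    decide (u (.inr 0) = v (.inr 0)) && decide (u (.inr 1) = v (.inr 1))

/-- The non-zero scalars. -/
def units4 : List K4 := [.l, .w, .v]

/-- Point of the suborbit. -/
noncomputable def upt (i : ℕ) : ℕ := pts.get i / 256

/-- Vector code of a point of the suborbit. -/
noncomputable def vcd (i : ℕ) : ℕ := pts.get i % 256

/-- The `j`-th matrix. -/
def smat (j : ℕ) : Matrix Ix Ix K4 := mat (spMats.getD j [])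

/-- The `j`-th generator acts on the suborbit as its matrix on vectors. -/
noncomputable def agreeOK (j : ℕ) : Bool :=
  let g := (getN nodes (spGens.getD j 0)).1
  let im := spImgs.getD j []
  allB (fun i => Nat.blt (im.getD i 0) 425 && Nat.beq (slot g (upt i)) (upt (im.getD i 0)) &&
    units4.any fun c => eqV (mv (smat j) (vec (vcd i))) (fun t => c * vec (vcd (im.getD i 0)) t)) 425

/-- The points are below the degree and increase. -/
noncomputable def ptsOK : Bool :=
  allB (fun i => Nat.blt (upt i) 2058 && (Nat.beq (i + 1) 425 || Nat.blt (upt i) (upt (i + 1)))) 425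

/-- The coded action on vectors agrees with the matrix. -/
noncomputable def vecOK (j : ℕ) : Bool :=
  permOK 256 (spVec.getD j (0, 0)) &&
    allB (fun x => eqV (mv (smat j) (vec x)) (vec (slot (spVec.getD j (0, 0)).1 x))) 256

/-- All non-zero vectors are reached from the base vector. -/
def vecTreeOK : Bool :=
  match growGo spVec spTree (ins 0 117) 1 with
  | some (m, _) => Nat.beq m (2 ^ 256 - 2)
  | none => false

/-- The image of a vector under a matrix with the given columns. -/
def comb (cs : Ix → K4) (T : Ix → Ix → K4) (v : Ix → K4) (t : Ix) : K4 :=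
  v (.inl 0) * (cs (.inl 0) * T (.inl 0) t) + v (.inl 1) * (cs (.inl 1) * T (.inl 1) t) +
    (v (.inr 0) * (cs (.inr 0) * T (.inr 0) t) + v (.inr 1) * (cs (.inr 1) * T (.inr 1) t))

/-- Targets of the basis. -/
noncomputable def sigT : Ix → Ix → K4 :=
  Sum.elim ![vec (vcd (sigBasis.getD 0 (0, 0)).2), vec (vcd (sigBasis.getD 1 (0, 0)).2)]
    ![vec (vcd (sigBasis.getD 2 (0, 0)).2), vec (vcd (sigBasis.getD 3 (0, 0)).2)]

/-- No matrix agrees with the semilinear element. -/
noncomputable def sigOK : Bool :=
  units4.all fun a => units4.all fun b => units4.all fun c => units4.all fun d =>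
    sigWit.any fun p => units4.all fun e =>
      !eqV (comb (Sum.elim ![a, b] ![c, d]) sigT (vec (vcd p.1))) (fun t => e * vec (vcd p.2) t)

/-- The indices used for the semilinear element are right. -/
noncomputable def sigIdxOK : Bool :=
  let g := (getN nodes sigNode).1
  Nat.blt (sigNode / 2) nodes.length && Nat.beq (slot g 0) 0 &&
    Nat.beq sigBasis.length 4 &&
    (sigBasis ++ sigWit).all (fun p => Nat.blt p.1 425 && Nat.blt p.2 425 && Nat.beq (slot g (upt p.1)) (upt p.2)) &&
    Nat.beq (vcd (sigBasis.getD 0 (0, 0)).1) 1 && Nat.beq (vcd (sigBasis.getD 1 (0, 0)).1) 4 &&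
    Nat.beq (vcd (sigBasis.getD 2 (0, 0)).1) 16 && Nat.beq (vcd (sigBasis.getD 3 (0, 0)).1) 64 &&
    Nat.beq (vcd (sigWit.getD 0 (0, 0)).1) 85

theorem pts_ok : ptsOK = true := by decide +kernel

theorem agree_ok : (agreeOK 0 && agreeOK 1 && agreeOK 2) = true := by decide +kernel

theorem vec_ok : (vecOK 0 && vecOK 1 && vecOK 2 && Nat.beq spVec.length 3) = true := by decide +kernel

theorem vecTree_ok : vecTreeOK = true := by decide +kernel

theorem sig_ok : sigOK = true := by decide +kernel

theorem sigIdx_ok : sigIdxOK = true := by decide +kernel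

theorem spGens_ok : (spGens.all fun g => Nat.blt (g / 2) nodes.length && Nat.beq (slot (getN nodes g).1 0) 0) = true ∧
    spGens.length = 3 := by
  refine ⟨by decide +kernel, by decide +kernel⟩

theorem smat_mem : ∀ j : Fin 3, smat j * Matrix.J (Fin 2) K4 * (smat j)ᵀ = Matrix.J (Fin 2) K4 := by
  decide +kernel

theorem smat_transvection : smat 0 = Cfsg.sympTransvection 2 (vec 117) K4.w ∧
    smat 1 = Cfsg.sympTransvection 2 (vec 117) K4.v := by
  refine ⟨by decide +kernel, by decide +kernel⟩

theorem vec_surj : ∀ a b c d : K4, ∃ x : Fin 256, vec x = Sum.elim ![a, b] ![c, d] := by decide +kernel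

end Cfsg.Agent.RigidGraph.He
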