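import Cfsg.Agent.Lib.RigidGraph.He.Group
import Cfsg.Agent.Lib.RigidGraph.He.SpChecks
import Cfsg.Agent.Lib.Classical.Symplectic

/-! The stabiliser in the group on 2058 points has a subgroup of index 2 isomorphic to `Sp(4, 4)`. -/

set_option autoImplicit false

namespace Cfsg.Agent.RigidGraph.He

open Matrix

attribute [local irreducible] rowsB rowsN nodes prog levels rounds ord cover graph pts spGens spMats spImgs spVec
  spTree sigBasis sigNode sigWit

/-- The symplectic group of dimension 4 over four elements. -/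
abbrev Sp44 : Type := ↥(Matrix.symplecticGroup (Fin 2) K4)

instance : Finite Sp44 := Finite.of_injective (fun A : Sp44 => (A : Matrix Ix Ix K4)) Subtype.val_injective

theorem mv_eq (M : Matrix Ix Ix K4) (v : Ix → K4) : mv M v = M *ᵥ v := by
  funext i
  simp [mv, Matrix.mulVec, dotProduct, Fintype.sum_sum_type, Fin.sum_univ_two]

theorem eqV_iff {u v : Ix → K4} : eqV u v = true ↔ u = v := by
  simp only [eqV, Bool.and_eq_true, decide_eq_true_eq]
  refine ⟨fun h => funext fun i => ?_, fun h => h ▸ ⟨⟨⟨rfl, rfl⟩, rfl⟩, rfl⟩⟩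
  rcases i with i | i <;> fin_cases i
  exacts [h.1.1.1, h.1.1.2, h.1.2, h.2]

theorem units4_ne {c : K4} (h : c ∈ units4) : c ≠ 0 := by
  simp only [units4, List.mem_cons, List.not_mem_nil, or_false] at h
  rcases h with rfl | rfl | rfl <;> decide

theorem mem_units4 {c : K4} (h : c ≠ 0) : c ∈ units4 := by
  cases c
  · exact absurd rfl h
  all_goals simp [units4]

/-- A generator as a permutation. -/
noncomputable def spPerm (j : ℕ) : Equiv.Perm (Fin 2058) := permOf 2058 (getN nodes (spGens.getD j 0))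

/-- A generator as a symplectic matrix. -/
def spElt (j : Fin 3) : Sp44 := ⟨smat j, SymplecticGroup.mem_iff.2 (smat_mem j)⟩

/-- The pairs of generators. -/
noncomputable def pairs : Subgroup (Equiv.Perm (Fin 2058) × Sp44) :=
  Subgroup.closure (Set.range fun j : Fin 3 => (spPerm j, spElt j))

theorem spGen_spec (j : Fin 3) : permOK 2058 (getN nodes (spGens.getD j 0)) = true ∧
    spPerm j ∈ grp 2058 nodes ⊓ fixList 2058 [0] := by
  obtain ⟨h, hl⟩ := spGens_ok
  have hm : spGens.getD (j : ℕ) 0 ∈ spGens := by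
    rw [List.getD_eq_getElem _ _ (by rw [hl]; exact j.2)]; exact List.getElem_mem _
  have h' := List.all_eq_true.1 h _ hm
  simp only [Bool.and_eq_true, Nat.blt_eq, Nat.beq_eq] at h'
  refine ⟨getN_ok slp_ok h'.1, getN_mem slp_ok h'.1, fun i hi => Fin.ext ?_⟩
  rw [List.mem_singleton] at hi
  rw [spPerm, permOf_val (getN_ok slp_ok h'.1), hi, h'.2]

theorem pts_spec {i : ℕ} (hi : i < 425) : upt i < 2058 := by
  have := allB_spec pts_ok hi
  simp only [Bool.and_eq_true, Nat.blt_eq] at this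
  exact this.1

theorem upt_inj {i k : ℕ} (hi : i < 425) (hk : k < 425) (h : upt i = upt k) : i = k := by
  have mono : ∀ a b, a < b → b < 425 → upt a < upt b := by
    intro a b hab
    induction b, hab using Nat.le_induction with
    | base =>
      intro hb
      have := allB_spec pts_ok (i := a) (by omega)
      simp only [Bool.and_eq_true, Bool.or_eq_true, Nat.blt_eq, Nat.beq_eq] at this
      exact this.2.resolve_left (by omega)
    | succ b hab ih =>
      intro hb
      have := allB_spec pts_ok (i := b) (by omega)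
      simp only [Bool.and_eq_true, Bool.or_eq_true, Nat.blt_eq, Nat.beq_eq] at this
      exact (ih (by omega)).trans (this.2.resolve_left (by omega))
  rcases lt_trichotomy i k with h1 | h1 | h1
  · exact absurd h (ne_of_lt (mono i k h1 hk))
  · exact h1
  · exact absurd h.symm (ne_of_lt (mono k i h1 hi))

/-- Agreement of a permutation and a matrix on the suborbit. -/
def Agree (x : Equiv.Perm (Fin 2058) × Sp44) : Prop :=
  ∀ i, ∀ hi : i < 425, ∃ k, ∃ hk : k < 425, x.1 ⟨upt i, pts_spec hi⟩ = ⟨upt k, pts_spec hk⟩ ∧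
    ∃ c : K4, c ≠ 0 ∧ (x.2 : Matrix Ix Ix K4) *ᵥ vec (vcd i) = c • vec (vcd k)

theorem agree_pairs {x : Equiv.Perm (Fin 2058) × Sp44} (hx : x ∈ pairs) : Agree x := by
  rw [pairs, ← Subgroup.mem_toSubmonoid, Subgroup.closure_toSubmonoid_of_finite] at hx
  induction hx using Submonoid.closure_induction with
  | mem y hy =>
    obtain ⟨j, rfl⟩ := hy
    intro i hi
    have h := agree_ok
    simp only [Bool.and_eq_true] at h
    have hj : agreeOK j = true := by fin_cases j; exacts [h.1.1, h.1.2, h.2]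
    simp only [agreeOK] at hj
    have h' := allB_spec hj hi
    simp only [Bool.and_eq_true, Nat.blt_eq, Nat.beq_eq, List.any_eq_true] at h'
    obtain ⟨⟨hk, hs⟩, c, hc, he⟩ := h'
    refine ⟨_, hk, Fin.ext ((permOf_val (spGen_spec j).1 _).trans hs), c, units4_ne hc, ?_⟩
    have := eqV_iff.1 he
    rw [mv_eq] at this
    exact this
  | one =>
    intro i hi
    exact ⟨i, hi, rfl, 1, one_ne_zero, by simp⟩
  | mul a b _ _ ha hb =>
    intro i hi
    obtain ⟨k, hk, hbk, c, hc, hbv⟩ := hb i hi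
    obtain ⟨m, hm, ham, d, hd, hav⟩ := ha k hk
    refine ⟨m, hm, ?_, c * d, mul_ne_zero hc hd, ?_⟩
    · rw [Prod.fst_mul, Equiv.Perm.mul_apply, hbk, ham]
    · rw [Prod.snd_mul, Submonoid.coe_mul, ← Matrix.mulVec_mulVec, hbv, Matrix.mulVec_smul, hav, smul_smul]

theorem sigIdx_spec : sigNode / 2 < nodes.length ∧ slot (getN nodes sigNode).1 0 = 0 ∧
    (∀ p ∈ sigBasis ++ sigWit, p.1 < 425 ∧ p.2 < 425 ∧ slot (getN nodes sigNode).1 (upt p.1) = upt p.2) ∧
    sigBasis.length = 4 ∧ vcd (sigBasis.getD 0 (0, 0)).1 = 1 ∧ vcd (sigBasis.getD 1 (0, 0)).1 = 4 ∧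
    vcd (sigBasis.getD 2 (0, 0)).1 = 16 ∧ vcd (sigBasis.getD 3 (0, 0)).1 = 64 ∧
    vcd (sigWit.getD 0 (0, 0)).1 = 85 ∧ (sigWit.getD 0 (0, 0)).1 < 425 := by
  have h := sigIdx_ok
  simp only [sigIdxOK, Bool.and_eq_true, Nat.blt_eq, Nat.beq_eq, List.all_eq_true] at h
  obtain ⟨⟨⟨⟨⟨⟨⟨⟨hn, h0⟩, hl⟩, hall⟩, e0⟩, e1⟩, e2⟩, e3⟩, e4⟩ := h
  refine ⟨hn, h0, fun p hp => ?_, hl, e0, e1, e2, e3, e4, ?_⟩
  · obtain ⟨⟨a, b⟩, c⟩ := hall p hp
    exact ⟨a, b, c⟩
  · cases hw : sigWit with
    | nil => simp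
    | cons p l => exact (hall p (by simp [hw])).1.1

/-- The basis vector codes. -/
def stdCode : Ix → ℕ := Sum.elim ![1, 4] ![16, 64]

theorem vec_std : ∀ t : Ix, vec (stdCode t) = Pi.single t (1 : K4) := by decide +kernel

theorem vec_ones : vec 85 = fun _ => (1 : K4) := by decide +kernel

theorem std_idx : ∀ t : Ix, ∃ p ∈ sigBasis, vcd p.1 = stdCode t ∧ vec (vcd p.2) = sigT t := by
  obtain ⟨-, -, -, hl, e0, e1, e2, e3, -, -⟩ := sigIdx_spec
  have hm : ∀ i < 4, sigBasis.getD i (0, 0) ∈ sigBasis := fun i hi => by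
    rw [List.getD_eq_getElem _ _ (hl ▸ hi)]; exact List.getElem_mem _
  intro t
  rcases t with t | t <;> fin_cases t
  exacts [⟨_, hm 0 (by norm_num), e0, rfl⟩, ⟨_, hm 1 (by norm_num), e1, rfl⟩,
    ⟨_, hm 2 (by norm_num), e2, rfl⟩, ⟨_, hm 3 (by norm_num), e3, rfl⟩]

theorem eq_one_of_scalar {A : Matrix Ix Ix K4} (hA : A ∈ Matrix.symplecticGroup (Fin 2) K4) {c : K4}
    (h : A = c • 1) : A = 1 := by
  subst h
  rw [SymplecticGroup.mem_iff] at hA
  simp only [Matrix.smul_mul, Matrix.one_mul, Matrix.transpose_smul, Matrix.transpose_one, Matrix.mul_smul,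
    Matrix.mul_one, smul_smul] at hA
  have h1 := congrFun (congrFun hA (Sum.inr 0)) (Sum.inl 0)
  simp only [Matrix.J, Matrix.smul_apply, Matrix.fromBlocks_apply₂₁, Matrix.one_apply_eq, smul_eq_mul,
    mul_one] at h1
  have key : ∀ d : K4, d * d = 1 → d = 1 := by decide
  rw [key c h1, one_smul]

theorem fst_injective {x : Equiv.Perm (Fin 2058) × Sp44} (hx : x ∈ pairs) (h1 : x.1 = 1) : x = 1 := by
  have hag := agree_pairs hx
  obtain ⟨-, -, hidx, -, -, -, -, -, e4, h4⟩ := sigIdx_spec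
  have hfix : ∀ i < 425, ∃ c : K4, (x.2 : Matrix Ix Ix K4) *ᵥ vec (vcd i) = c • vec (vcd i) := by
    intro i hi
    obtain ⟨k, hk, hik, c, -, hv⟩ := hag i hi
    rw [h1, Equiv.Perm.one_apply, Fin.mk.injEq] at hik
    obtain rfl := upt_inj hi hk hik
    exact ⟨c, hv⟩
  have hcol : ∀ t : Ix, ∃ c : K4, ∀ r, (x.2 : Matrix Ix Ix K4) r t = if r = t then c else 0 := by
    intro t
    obtain ⟨p, hp, e, -⟩ := std_idx t
    obtain ⟨c, hc⟩ := hfix p.1 (hidx p (List.mem_append_left _ hp)).1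
    rw [e, vec_std] at hc
    refine ⟨c, fun r => ?_⟩
    have := congrFun hc r
    simp only [Matrix.mulVec_single, Pi.smul_apply, smul_eq_mul, MulOpposite.op_one, one_smul] at this
    simp only [Pi.single_apply] at this
    rw [show (x.2 : Matrix Ix Ix K4) r t = (x.2 : Matrix Ix Ix K4).col t r from rfl, this]
    split <;> simp
  obtain ⟨c, hc⟩ := hfix _ h4
  rw [e4, vec_ones] at hc
  choose d hd using hcol
  have hdc : ∀ t, d t = c := fun t => by
    have := congrFun hc t
    simp only [Matrix.mulVec, dotProduct, Pi.smul_apply, smul_eq_mul, mul_one] at this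
    rw [← this]
    simp [hd]
  have hA : (x.2 : Matrix Ix Ix K4) = c • 1 := by
    ext r t
    rw [hd, hdc, Matrix.smul_apply, Matrix.one_apply]
    split <;> simp
  exact Prod.ext h1 (Subtype.ext (eq_one_of_scalar x.2.2 hA))

/-- The matrices occurring. -/
noncomputable def mats : Subgroup Sp44 := pairs.map (MonoidHom.snd (Equiv.Perm (Fin 2058)) Sp44)

theorem spElt_mem (j : Fin 3) : spElt j ∈ mats :=
  ⟨(spPerm j, spElt j), Subgroup.subset_closure ⟨j, rfl⟩, rfl⟩

theorem bit_punctured (k : ℕ) {x : ℕ} (hx : x < k + 1) (h0 : x ≠ 0) : bit (2 ^ (k + 1) - 2) x = true := by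
  obtain ⟨y, rfl⟩ : ∃ y, x = y + 1 := ⟨x - 1, by omega⟩
  rw [bit_eq_testBit, Nat.testBit_succ, show (2 ^ (k + 1) - 2) / 2 = 2 ^ k - 1 from by rw [pow_succ]; omega,
    Nat.testBit_two_pow_sub_one]
  exact decide_eq_true (by omega)

theorem grow_full {gs : List Elt} {tree : List (ℕ × ℕ)} {m0 N : ℕ}
    (h : (match growGo gs tree m0 1 with
      | some (m, _) => Nat.beq m N
      | none => false) = true) : ∃ c, growGo gs tree m0 1 = some (N, c) := by
  cases hg : growGo gs tree m0 1 with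
  | none => rw [hg] at h; exact Bool.noConfusion h
  | some p => obtain ⟨m, c⟩ := p; rw [hg] at h; exact ⟨c, by rw [Nat.eq_of_beq_eq_true h]⟩

theorem vec_reach {x : ℕ} (hx : x < 256) (h0 : x ≠ 0) :
    ∃ A ∈ mats, (A : Matrix Ix Ix K4) *ᵥ vec 117 = vec x := by
  have hv := vec_ok
  simp only [Bool.and_eq_true, Nat.beq_eq] at hv
  obtain ⟨⟨⟨hv0, hv1⟩, hv2⟩, hlen⟩ := hv
  have hj : ∀ j : Fin 3, vecOK j = true := fun j => by fin_cases j; exacts [hv0, hv1, hv2]
  have hg : ∀ e ∈ spVec, ∃ j : Fin 3, spVec.getD j (0, 0) = e := fun e he => by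
    obtain ⟨i, hi, rfl⟩ := List.getElem_of_mem he
    exact ⟨⟨i, hlen ▸ hi⟩, List.getD_eq_getElem _ _ hi⟩
  have hok : ∀ e ∈ spVec, permOK 256 e = true := fun e he => by
    obtain ⟨j, rfl⟩ := hg e he
    have := hj j
    simp only [vecOK, Bool.and_eq_true] at this
    exact this.1
  have h := vecTree_ok
  unfold vecTreeOK at h
  obtain ⟨c, hgo⟩ := grow_full h
  have h0' : ∀ u, bit (ins 0 117) u = true → u = 117 := fun u hu => by
    rcases (bit_ins _ _ _).1 hu with h | h
    · exact h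
    · rw [bit_zero] at h; exact Bool.noConfusion h
  obtain ⟨-, -, h3, -⟩ := growGo_spec (n := 256) hok
    (fun u => ∃ A ∈ mats, (A : Matrix Ix Ix K4) *ᵥ vec 117 = vec u)
    (fun u hu e he hun => by
      obtain ⟨A, hA, hAe⟩ := hu
      obtain ⟨j, rfl⟩ := hg e he
      have := hj j
      simp only [vecOK, Bool.and_eq_true] at this
      have h2 := eqV_iff.1 (allB_spec this.2 hun)
      rw [mv_eq] at h2
      refine ⟨spElt j * A, mul_mem (spElt_mem j) hA, ?_⟩
      rw [Submonoid.coe_mul, ← Matrix.mulVec_mulVec, hAe]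
      exact h2)
    spTree _ _ _ _ hgo (fun u hu => by rw [h0' u hu]; norm_num)
  refine h3 (fun u hu => ⟨1, one_mem _, by rw [h0' u hu]; exact Matrix.one_mulVec _⟩) x ?_
  exact bit_punctured 255 hx h0

theorem sympForm_self (v : Ix → K4) : Cfsg.sympForm 2 K4 v v = 0 := by
  rw [← ClassicalSp.spBilin_apply]; exact ClassicalSp.spBilin_isAlt v

theorem transvection_add (v : Ix → K4) (a b : K4) :
    Cfsg.sympTransvection 2 v a * Cfsg.sympTransvection 2 v b = Cfsg.sympTransvection 2 v (a + b) := by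
  refine Matrix.ext_of_mulVec_single fun t => ?_
  simp only [← Matrix.mulVec_mulVec, ClassicalSp.sympTransvection_mulVec]
  rw [← ClassicalSp.spBilin_apply, ← ClassicalSp.spBilin_apply, map_add, LinearMap.add_apply, map_smul,
    LinearMap.smul_apply, ClassicalSp.spBilin_apply, ClassicalSp.spBilin_apply, sympForm_self]
  simp only [smul_eq_mul, mul_zero, add_zero, add_mul, add_smul]
  abel

theorem mats_eq_top : mats = ⊤ := by
  obtain ⟨t0, t1⟩ := smat_transvection
  rw [eq_top_iff, ← ClassicalSp.closure_transvections, Subgroup.closure_le]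
  rintro T ⟨w, c, hT⟩
  have base : ∀ d : K4, ∃ B ∈ mats, (B : Matrix Ix Ix K4) = Cfsg.sympTransvection 2 (vec 117) d := by
    intro d
    cases d
    · exact ⟨1, one_mem _, by simp [Cfsg.sympTransvection, show (K4.o : K4) = 0 from rfl]⟩
    · refine ⟨spElt 0 * spElt 1, mul_mem (spElt_mem 0) (spElt_mem 1), ?_⟩
      show smat 0 * smat 1 = _
      rw [t0, t1, transvection_add]
      rfl
    · exact ⟨spElt 0, spElt_mem 0, t0⟩
    · exact ⟨spElt 1, spElt_mem 1, t1⟩
  by_cases hw : w = 0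
  · subst hw
    have : T = 1 := Subtype.ext (by rw [hT]; simp [Cfsg.sympTransvection])
    rw [this]; exact one_mem _
  obtain ⟨x, hx⟩ := vec_surj (w (.inl 0)) (w (.inl 1)) (w (.inr 0)) (w (.inr 1))
  have hwx : vec x = w := by
    rw [hx]; funext i; rcases i with i | i <;> fin_cases i <;> rfl
  obtain ⟨A, hA, hAw⟩ := vec_reach x.2 (fun e => hw (by rw [← hwx, e]; decide +kernel))
  rw [hwx] at hAw
  obtain ⟨B, hB, hBe⟩ := base c
  have : T = A * B * A⁻¹ := by
    rw [eq_mul_inv_iff_mul_eq]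
    refine Subtype.ext ?_
    rw [Submonoid.coe_mul, Submonoid.coe_mul, hT, hBe]
    refine Matrix.ext_of_mulVec_single fun t => ?_
    simp only [← Matrix.mulVec_mulVec, ClassicalSp.sympTransvection_mulVec, Matrix.mulVec_add, Matrix.mulVec_smul,
      hAw]
    congr 2
    rw [← hAw, (ClassicalSp.mem_iff_preserves _).1 A.2]
  rw [this]
  exact mul_mem (mul_mem hA hB) (inv_mem hA)

/-- The semilinear element. -/
noncomputable def sigPerm : Equiv.Perm (Fin 2058) := permOf 2058 (getN nodes sigNode)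

attribute [local irreducible] permOf sigPerm in
theorem image_val {n : ℕ} {e : Elt} (h : permOK n e = true) {a b c : ℕ} (ha : a < n) (hb : b < n)
    (he : slot e.1 a = c) (hab : permOf n e ⟨a, ha⟩ = ⟨b, hb⟩) : c = b := by
  rw [← he, ← permOf_val h ⟨a, ha⟩, hab]

theorem agree_apply {σ : Equiv.Perm (Fin 2058)} {M : Sp44} (h : Agree (σ, M)) {i : ℕ} (hi : i < 425) :
    ∃ k, ∃ hk : k < 425, σ ⟨upt i, pts_spec hi⟩ = ⟨upt k, pts_spec hk⟩ ∧
      ∃ c : K4, c ≠ 0 ∧ (M : Matrix Ix Ix K4) *ᵥ vec (vcd i) = c • vec (vcd k) := h i hi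

theorem sig_not_mem (M : Sp44) : (sigPerm, M) ∉ pairs := by
  intro h
  have hag := agree_pairs h
  obtain ⟨hn, -, hidx, -, -, -, -, -, -, -⟩ := sigIdx_spec
  have hval : ∀ p ∈ sigBasis ++ sigWit, ∃ c : K4, c ≠ 0 ∧
      (M : Matrix Ix Ix K4) *ᵥ vec (vcd p.1) = c • vec (vcd p.2) := by
    intro p hp
    obtain ⟨a1, a2, a3⟩ := hidx p hp
    obtain ⟨k, hk, hik, c, hc, hv⟩ := agree_apply hag a1
    rw [sigPerm] at hik
    have hpk : p.2 = k := upt_inj a2 hk (image_val (n := 2058) (e := getN nodes sigNode) (a := upt p.1) (b := upt k)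
      (c := upt p.2) (getN_ok slp_ok hn) (pts_spec a1) (pts_spec hk) a3 hik)
    subst hpk
    exact ⟨c, hc, hv⟩
  have hcol : ∀ t : Ix, ∃ c : K4, c ≠ 0 ∧ ∀ r, (M : Matrix Ix Ix K4) r t = c * sigT t r := by
    intro t
    obtain ⟨p, hp, e1, e2⟩ := std_idx t
    obtain ⟨c, hc, hv⟩ := hval p (List.mem_append_left _ hp)
    rw [e1, e2, vec_std, Matrix.mulVec_single, MulOpposite.op_one, one_smul] at hv
    exact ⟨c, hc, fun r => congrFun hv r⟩
  choose d hd0 hd using hcol
  have h' := sig_ok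
  simp only [sigOK, List.all_eq_true, List.any_eq_true] at h'
  obtain ⟨p, hp, hp'⟩ := h' _ (mem_units4 (hd0 (.inl 0))) _ (mem_units4 (hd0 (.inl 1))) _
    (mem_units4 (hd0 (.inr 0))) _ (mem_units4 (hd0 (.inr 1)))
  obtain ⟨e, he, hv⟩ := hval p (List.mem_append_right _ hp)
  have := hp' e (mem_units4 he)
  rw [Bool.not_eq_true'] at this
  refine Bool.eq_false_iff.1 this (eqV_iff.2 ?_)
  funext r
  have hr := congrFun hv r
  simp only [Matrix.mulVec, dotProduct, Fintype.sum_sum_type, Fin.sum_univ_two, Pi.smul_apply, smul_eq_mul, hd] at hr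
  simp only [comb, Sum.elim_inl, Sum.elim_inr, Matrix.cons_val_zero, Matrix.cons_val_one]
  rw [← hr]
  ring

theorem card_Sp44 : Nat.card Sp44 = 979200 := by
  rw [ClassicalSp.card_sp, Nat.card_eq_fintype_card, K4.card_K4]
  norm_num [Finset.prod_range_succ]

theorem stab_eq : Nat.card ↥(grp 2058 nodes ⊓ fixList 2058 [0]) = 1958400 := by
  rw [← card_stab_heGroup]
  refine Nat.card_congr
    { toFun := fun g => ⟨⟨g.1, g.2.1⟩, g.2.2 0 (by simp)⟩
      invFun := fun g => ⟨g.1.1, g.1.2, fun i hi => ?_⟩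
      left_inv := fun _ => rfl
      right_inv := fun _ => rfl }
  rw [List.mem_singleton] at hi
  rw [show i = (0 : Fin 2058) from Fin.ext hi]
  exact g.2

/-- The linear part of the stabiliser. -/
noncomputable def linPart : Subgroup (Equiv.Perm (Fin 2058)) :=
  pairs.map (MonoidHom.fst (Equiv.Perm (Fin 2058)) Sp44)

theorem linPart_le : linPart ≤ grp 2058 nodes ⊓ fixList 2058 [0] := by
  rw [linPart, pairs, MonoidHom.map_closure, Subgroup.closure_le]
  rintro _ ⟨_, ⟨j, rfl⟩, rfl⟩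
  exact (spGen_spec j).2

theorem linPart_spec : Nat.card ↥linPart = 979200 ∧ Nonempty (↥linPart ≃* Sp44) := by
  have hinj : Function.Injective ((MonoidHom.fst (Equiv.Perm (Fin 2058)) Sp44).comp pairs.subtype) := by
    rw [injective_iff_map_eq_one]
    intro x hx
    exact Subtype.ext (fst_injective x.2 hx)
  have hsurj : Function.Surjective ((MonoidHom.snd (Equiv.Perm (Fin 2058)) Sp44).comp pairs.subtype) := by
    intro A
    obtain ⟨x, hx, e⟩ := (mats_eq_top.symm ▸ Subgroup.mem_top A : A ∈ mats)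
    exact ⟨⟨x, hx⟩, e⟩
  let e1 : ↥pairs ≃* ↥linPart := (MonoidHom.ofInjective hinj).trans (MulEquiv.subgroupCongr (by
    rw [MonoidHom.range_eq_map, ← Subgroup.map_map, ← MonoidHom.range_eq_map, Subgroup.range_subtype]; rfl))
  have hge : 979200 ≤ Nat.card ↥pairs := card_Sp44 ▸ Nat.card_le_card_of_surjective _ hsurj
  have hdvd : Nat.card ↥pairs ∣ 1958400 := by
    rw [Nat.card_congr e1.toEquiv, ← stab_eq]; exact Subgroup.card_dvd_of_le linPart_le
  have hne : Nat.card ↥pairs ≠ 1958400 := by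
    intro h
    have heq : linPart = grp 2058 nodes ⊓ fixList 2058 [0] :=
      Subgroup.eq_of_le_of_card_ge linPart_le (by rw [stab_eq, ← h, Nat.card_congr e1.toEquiv])
    obtain ⟨hn, h0, -, -, -, -, -, -, -, -⟩ := sigIdx_spec
    have hs : sigPerm ∈ linPart := by
      rw [heq]
      refine ⟨getN_mem slp_ok hn, fun i hi => Fin.ext ?_⟩
      rw [List.mem_singleton] at hi
      rw [sigPerm, permOf_val (getN_ok slp_ok hn), hi, h0]
    obtain ⟨⟨s, M⟩, hx, e⟩ := hs
    exact sig_not_mem M ((show s = sigPerm from e) ▸ hx)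
  have hcard : Nat.card ↥pairs = 979200 := by
    obtain ⟨k, hk⟩ := hdvd
    have hk3 : k < 3 := by
      by_contra hc
      push Not at hc
      have := Nat.mul_le_mul hge hc
      omega
    interval_cases k <;> omega
  refine ⟨by rw [← Nat.card_congr e1.toEquiv, hcard], ⟨e1.symm.trans (MulEquiv.ofBijective ((MonoidHom.snd (Equiv.Perm (Fin 2058)) Sp44).comp pairs.subtype) ?_)⟩⟩
  exact (Nat.bijective_iff_surjective_and_card _).2 ⟨hsurj, by rw [hcard, card_Sp44]⟩

theorem exists_index_two : ∃ N : Subgroup (MulAction.stabilizer ↥heGroup (0 : Fin 2058)),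
    N.index = 2 ∧ Nonempty (N ≃* Sp44) := by
  set f : MulAction.stabilizer ↥heGroup (0 : Fin 2058) →* Equiv.Perm (Fin 2058) :=
    heGroup.subtype.comp (Subgroup.subtype _) with hf
  have hinj : Function.Injective f := heGroup.subtype_injective.comp Subtype.val_injective
  have hle : linPart ≤ f.range := fun s hs =>
    ⟨⟨⟨s, (linPart_le hs).1⟩, (linPart_le hs).2 0 (by simp)⟩, rfl⟩
  let e : ↥(linPart.comap f) ≃* ↥linPart :=
    ((linPart.comap f).equivMapOfInjective f hinj).trans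
      (MulEquiv.subgroupCongr (Subgroup.map_comap_eq_self hle))
  obtain ⟨hcard, ⟨e'⟩⟩ := linPart_spec
  refine ⟨linPart.comap f, ?_, ⟨e.trans e'⟩⟩
  have h := (linPart.comap f).card_mul_index
  rw [card_stab_heGroup, Nat.card_congr e.toEquiv, hcard] at h
  omega

end Cfsg.Agent.RigidGraph.He
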