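import Cfsg.Agent.Lib.RigidGraph.He.Presented
import Cfsg.Agent.Lib.RigidGraph.He.Sp

/-! The point stabiliser in the presented group. -/

set_option autoImplicit false
set_option maxRecDepth 100000

namespace Cfsg.Agent.RigidGraph.He

open Cfsg.Agent.CosetCert

attribute [local irreducible] relabel word0 word1 nodes heGroup

theorem relabel_zero : slot relabel.1 0 = 0 ∧ slot relabel.2 0 = 0 := by
  unfold relabel
  exact ⟨by decide +kernel, by decide +kernel⟩

theorem fixing_generators : ∀ w ∈ Cfsg.Agent.CosetData.HeH.sw,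
    (∀ x ∈ w, x < 7) ∧ tact Cfsg.Agent.CosetData.HeH.P w.reverse 0 = 0 := by
  have h : (Cfsg.Agent.CosetData.HeH.sw.all fun w => (w.all fun x => Nat.blt x 7) &&
      Nat.beq (tact Cfsg.Agent.CosetData.HeH.P w.reverse 0) 0) = true := by decide +kernel
  intro w hw
  have h' := List.all_eq_true.1 h w hw
  simp only [Bool.and_eq_true, List.all_eq_true, Nat.blt_eq, Nat.beq_eq] at h'
  exact h'

theorem toPerm_fix_zero {g : PG} (hw : ∃ w ∈ Cfsg.Agent.CosetData.HeH.sw, g = wprod pgen w) :
    toPerm g (0 : Fin 2058) = 0 := by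
  obtain ⟨w, hw, rfl⟩ := hw
  obtain ⟨h1, h2⟩ := fixing_generators w hw
  have hrel := relabel_ok
  simp only [relabelOK, Bool.and_eq_true] at hrel
  refine Fin.ext ?_
  rw [toPerm_val hrel.1.1.1 w h1]
  show slot relabel.2 (tact _ w.reverse (slot relabel.1 0)) = 0
  rw [relabel_zero.1, h2, relabel_zero.2]

theorem stab_transport {G K X : Type*} [Group G] [Finite G] [Group K] [MulAction K X]
    [MulAction.IsPretransitive K X] (φ : G ≃* K) (x : X) {H : Subgroup G} {s : Set G}
    (hH : H = Subgroup.closure s) (hfix : ∀ g ∈ s, φ g • x = x) (hidx : H.index = Nat.card X)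
    {M : Type*} [Group M]
    (hN : ∃ N : Subgroup (MulAction.stabilizer K x), N.index = 2 ∧ Nonempty (N ≃* M)) :
    ∃ N' : Subgroup H, N'.Normal ∧ N'.index = 2 ∧ Nonempty (N' ≃* M) := by
  set T := (MulAction.stabilizer K x).comap φ.toMonoidHom with hT
  have hle : H ≤ T := by
    rw [hH, Subgroup.closure_le]
    intro g hg
    exact hfix g hg
  have hTidx : T.index = Nat.card X := by
    rw [hT, Subgroup.index_comap_of_surjective _ φ.surjective, MulAction.index_stabilizer_of_transitive]
  have hHT : H = T := by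
    refine Subgroup.eq_of_le_of_card_ge hle (le_of_eq ?_)
    have e1 := H.card_mul_index
    have e2 := T.card_mul_index
    rw [hidx] at e1
    rw [hTidx, ← e1] at e2
    have hpos : 0 < Nat.card X := hidx ▸ Nat.pos_of_ne_zero Subgroup.index_ne_zero_of_finite
    exact Nat.eq_of_mul_eq_mul_right hpos e2
  have hmap : H.map φ.toMonoidHom = MulAction.stabilizer K x := by
    rw [hHT, hT, Subgroup.map_comap_eq_self_of_surjective φ.surjective]
  let e : ↥H ≃* ↥(MulAction.stabilizer K x) := (φ.subgroupMap H).trans (MulEquiv.subgroupCongr hmap)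
  obtain ⟨N, h, ⟨iso⟩⟩ := hN
  have h2 : (N.comap e.toMonoidHom).index = 2 := by
    rw [Subgroup.index_comap_of_surjective _ e.surjective, h]
  refine ⟨N.comap e.toMonoidHom, Subgroup.normal_of_index_eq_two h2, h2, ⟨?_⟩⟩
  exact ((e.subgroupMap (N.comap e.toMonoidHom)).trans
    (MulEquiv.subgroupCongr (Subgroup.map_comap_eq_self_of_surjective e.surjective N))).trans iso

theorem stab_presented {H : Subgroup PG}
    (hH : H = Subgroup.closure {g : PG | ∃ w ∈ Cfsg.Agent.CosetData.HeH.sw, g = wprod pgen w}) :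
    ∃ N : Subgroup H, N.Normal ∧ N.index = 2 ∧ Nonempty (N ≃* Sp44) := by
  haveI hf : Finite PG := card_PG.1
  haveI : MulAction.IsPretransitive ↥heGroup (Fin 2058) := pretransitive_heGroup
  refine stab_transport (G := PG) (presentedEquiv : PG ≃* ↥heGroup) (0 : Fin 2058) hH (fun g hg => ?_) ?_
    exists_index_two
  · exact toPerm_fix_zero hg
  · rw [Nat.card_fin]
    exact (Cfsg.Agent.CosetData.HeH.setup.exists_equiv (H := H) hH (by decide +kernel)
      Cfsg.Agent.CosetData.HeH.rots_ok Cfsg.Agent.CosetData.HeH.cert_ok Cfsg.Agent.CosetData.HeH.fix_ok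
      Cfsg.Agent.CosetData.HeH.tree_ok Cfsg.Agent.CosetData.HeH.tree_len).1

end Cfsg.Agent.RigidGraph.He
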